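import Mathlib

/-!
# The arithmetic of the degree equations
-/

set_option autoImplicit false

namespace CfsgLib.GW

/-- The only solution of the degree equations is the one of the alternating group of degree seven. -/
theorem degree_arith {h d W x Y₂ Y₃ N g : ℕ} {δ s₂ s₃ : ℤ} (hh : ∃ k, 1 ≤ k ∧ h = 2 ^ k)
    (hd : Odd d) (hd3 : 3 ≤ d) (hδ : δ = 1 ∨ δ = -1) (hs₂ : s₂ = 1 ∨ s₂ = -1) (hs₃ : s₃ = 1 ∨ s₃ = -1)
    (hx : 4 * h + 1 ≤ x) (hY₂ : 4 * h + 1 ≤ Y₂) (hY₃ : 4 * h + 1 ≤ Y₃)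
    (hsum : s₂ * Y₂ + s₃ * Y₃ = -δ * (x + δ))
    (heq : s₂ * Y₂ * (s₃ * Y₃) *
        ((1 + d : ℤ) ^ 2 * (x + δ) ^ 2 - 4 * d * (x - δ) ^ 2) = δ * x * (x + δ) ^ 2 * (1 + d) ^ 2)
    (hN : N = 4 * h * g) (hg : Odd g)
    (hord : (N : ℤ) * (x - δ) ^ 2 = 8 * h ^ 3 * d * W * (1 + d) ^ 2 * (x * (x + δ))) :
    h = 2 ∧ d = 3 ∧ x = 15 ∧ δ = -1 ∧ N = 2520 * W := by
  obtain ⟨k, hk, rfl⟩ := hh
  have h2 : 2 ≤ 2 ^ k := by
    calc 2 = 2 ^ 1 := rfl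
      _ ≤ 2 ^ k := Nat.pow_le_pow_right two_pos hk
  -- four times `h` divides `x - δ`
  obtain ⟨X, hX⟩ : ∃ X : ℕ, (X : ℤ) = x - δ := ⟨(x - δ).toNat, Int.toNat_of_nonneg (by omega)⟩
  have hdvd : 4 * 2 ^ k ∣ X := by
    obtain ⟨c, hc⟩ := hd
    have h1 : ((4 * 2 ^ k) ^ 2 : ℤ) ∣ 2 * (g : ℤ) * (X : ℤ) ^ 2 := by
      refine ⟨(c + 1) ^ 2 * (d * W * (x * (x + δ))), ?_⟩
      have h4 : (4 * 2 ^ k : ℤ) * (g : ℤ) * (X : ℤ) ^ 2 =
          8 * (2 ^ k) ^ 3 * d * W * (1 + d) ^ 2 * (x * (x + δ)) := by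
        rw [hX]; rw [hN] at hord; push_cast at hord; linear_combination hord
      have h5 : (4 * 2 ^ k : ℤ) ≠ 0 := by positivity
      refine mul_left_cancel₀ h5 ?_
      rw [hc] at h4 ⊢
      push_cast at h4 ⊢
      linear_combination 2 * h4
    have h6 : (4 * 2 ^ k) ^ 2 ∣ 2 * g * X ^ 2 := by exact_mod_cast h1
    have h7 : Nat.Coprime (2 ^ (2 * k + 4)) g := (Nat.coprime_two_left.2 hg).pow_left _
    have h8 : 2 ^ (2 * k + 4) ∣ g * (2 * X ^ 2) := by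
      have e : (4 * 2 ^ k) ^ 2 = 2 ^ (2 * k + 4) := by ring
      rw [← e, show g * (2 * X ^ 2) = 2 * g * X ^ 2 by ring]; exact h6
    have h9 : 2 ^ (2 * k + 3) ∣ X ^ 2 := by
      have := h7.dvd_of_dvd_mul_left h8
      rw [show 2 * k + 4 = (2 * k + 3) + 1 by ring, pow_succ'] at this
      exact Nat.dvd_of_mul_dvd_mul_left two_pos this
    rcases Nat.eq_zero_or_pos X with h0 | h0
    · exact h0 ▸ dvd_zero _
    obtain ⟨e, m, hm, rfl⟩ := Nat.exists_eq_two_pow_mul_odd h0.ne'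
    rw [mul_pow, ← pow_mul] at h9
    have h10 := ((Nat.coprime_two_left.2 hm).pow_left (2 * k + 3)).pow_right 2 |>.dvd_of_dvd_mul_right h9
    have h11 : 2 * k + 3 ≤ e * 2 := (Nat.pow_dvd_pow_iff_le_right Nat.one_lt_two).1 h10
    rw [show 4 * 2 ^ k = 2 ^ (k + 2) by ring]
    exact dvd_mul_of_dvd_left (pow_dvd_pow 2 (by omega)) m
  have hd' : (3 : ℤ) ≤ d := by exact_mod_cast hd3
  have hx' : (9 : ℤ) ≤ x := by omega
  have hY₂' : (9 : ℤ) ≤ Y₂ := by omega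
  have hY₃' : (9 : ℤ) ≤ Y₃ := by omega
  rcases hδ with rfl | rfl
  · exfalso
    have hsum' : (Y₂ : ℤ) + Y₃ = x + 1 ∧ s₂ * Y₂ * (s₃ * Y₃) = (Y₂ : ℤ) * Y₃ := by
      rcases hs₂ with rfl | rfl <;> rcases hs₃ with rfl | rfl
      · omega
      · exfalso
        have hpos : 0 < (1 + d : ℤ) ^ 2 * (x + 1) ^ 2 - 4 * d * (x - 1) ^ 2 := by
          nlinarith [mul_nonneg (sq_nonneg ((d : ℤ) - 1)) (sq_nonneg ((x : ℤ) - 1)),
            mul_pos (show (0 : ℤ) < (1 + d) ^ 2 by positivity) (show (0 : ℤ) < x by omega)]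
        have : (0 : ℤ) < 1 * x * (x + 1) ^ 2 * (1 + d) ^ 2 := by positivity
        nlinarith [mul_pos (show (0 : ℤ) < Y₂ * Y₃ by positivity) hpos]
      · exfalso
        have hpos : 0 < (1 + d : ℤ) ^ 2 * (x + 1) ^ 2 - 4 * d * (x - 1) ^ 2 := by
          nlinarith [mul_nonneg (sq_nonneg ((d : ℤ) - 1)) (sq_nonneg ((x : ℤ) - 1)),
            mul_pos (show (0 : ℤ) < (1 + d) ^ 2 by positivity) (show (0 : ℤ) < x by omega)]
        have : (0 : ℤ) < 1 * x * (x + 1) ^ 2 * (1 + d) ^ 2 := by positivity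
        nlinarith [mul_pos (show (0 : ℤ) < Y₂ * Y₃ by positivity) hpos]
      · exact ⟨by omega, by ring⟩
    obtain ⟨hs, hp⟩ := hsum'
    rw [hp] at heq
    have hP : 9 * ((x : ℤ) + 1) - 81 ≤ Y₂ * Y₃ := by
      nlinarith [mul_nonneg (show (0 : ℤ) ≤ Y₂ - 9 by omega) (show (0 : ℤ) ≤ Y₃ - 9 by omega)]
    have h17 : (17 : ℤ) ≤ x := by omega
    set D : ℤ := (1 + d : ℤ) ^ 2 * (x + 1) ^ 2 - 4 * d * (x - 1) ^ 2 with hD
    have hD4 : (1 + d : ℤ) ^ 2 * ((x - 1) ^ 2 + 16 * (x - 1) + 16) ≤ 4 * D := by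
      rw [hD]
      nlinarith [mul_nonneg (show (0 : ℤ) ≤ (3 * d - 1) * (d - 3) by nlinarith) (sq_nonneg ((x : ℤ) - 1))]
    have hD0 : 0 ≤ D := by
      nlinarith [mul_nonneg (sq_nonneg (1 + d : ℤ)) (show (0 : ℤ) ≤ (x - 1) ^ 2 + 16 * (x - 1) + 16 by nlinarith)]
    have h1 : (9 * ((x : ℤ) + 1) - 81) * ((1 + d : ℤ) ^ 2 * ((x - 1) ^ 2 + 16 * (x - 1) + 16)) ≤
        4 * (x * (x + 1) ^ 2) * (1 + d) ^ 2 := by
      calc _ ≤ (9 * ((x : ℤ) + 1) - 81) * (4 * D) := mul_le_mul_of_nonneg_left hD4 (by omega)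
        _ ≤ Y₂ * Y₃ * (4 * D) := mul_le_mul_of_nonneg_right hP (by omega)
        _ = _ := by linear_combination 4 * heq
    have h2 : (9 * ((x : ℤ) + 1) - 81) * ((x - 1) ^ 2 + 16 * (x - 1) + 16) ≤ 4 * (x * (x + 1) ^ 2) :=
      le_of_mul_le_mul_right (by linarith) (show (0 : ℤ) < (1 + d) ^ 2 by positivity)
    nlinarith [mul_nonneg (mul_nonneg (show (0 : ℤ) ≤ x - 17 by omega) (show (0 : ℤ) ≤ x by omega))
      (show (0 : ℤ) ≤ x by omega), mul_nonneg (show (0 : ℤ) ≤ x - 17 by omega) (show (0 : ℤ) ≤ x by omega)]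
  · have hX16 : (16 : ℤ) ≤ X ∧ 8 * 2 ^ k ≤ X := by
      obtain ⟨c, rfl⟩ := hdvd
      have : 2 ≤ c := by
        by_contra hc
        have := Nat.mul_le_mul_left (4 * 2 ^ k) (show c ≤ 1 by omega)
        omega
      have h3 := Nat.mul_le_mul_left (4 * 2 ^ k) this
      exact ⟨by omega, by omega⟩
    obtain ⟨hX16, hX8⟩ := hX16
    set D : ℤ := (1 + d : ℤ) ^ 2 * (x + -1) ^ 2 - 4 * d * (x - -1) ^ 2 with hD
    have hXv : (X : ℤ) = x + 1 := by omega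
    have hD4 : (1 + d : ℤ) ^ 2 * ((X : ℤ) ^ 2 - 16 * X + 16) ≤ 4 * D := by
      rw [hD, hXv]
      nlinarith [mul_nonneg (show (0 : ℤ) ≤ (3 * d - 1) * (d - 3) by nlinarith) (sq_nonneg ((x : ℤ) + 1))]
    have hDpos : 0 < D := by
      nlinarith [mul_pos (show (0 : ℤ) < (1 + d) ^ 2 by positivity)
        (show (0 : ℤ) < (X : ℤ) ^ 2 - 16 * X + 16 by nlinarith)]
    have hneg : s₂ * Y₂ * (s₃ * Y₃) = -((Y₂ : ℤ) * Y₃) ∧ (x : ℤ) + 8 ≤ Y₂ + Y₃ - 9 ∧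
        (x + 8) * 9 ≤ (Y₂ : ℤ) * Y₃ := by
      have hn : s₂ * Y₂ * (s₃ * Y₃) < 0 := by
        by_contra hc
        have h1 := mul_nonneg (not_lt.1 hc) hDpos.le
        rw [heq] at h1
        have h2 : (0 : ℤ) < x * (x + -1) ^ 2 * (1 + d) ^ 2 :=
          mul_pos (mul_pos (by omega) (pow_pos (by omega) 2)) (pow_pos (by omega) 2)
        linarith
      rcases hs₂ with rfl | rfl <;> rcases hs₃ with rfl | rfl
      · exfalso; nlinarith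
      · refine ⟨by ring, by omega, ?_⟩
        nlinarith [mul_le_mul (show (x : ℤ) + 8 ≤ Y₂ by omega) (show (9 : ℤ) ≤ Y₃ by omega)]
      · refine ⟨by ring, by omega, ?_⟩
        nlinarith [mul_le_mul (show (x : ℤ) + 8 ≤ Y₃ by omega) (show (9 : ℤ) ≤ Y₂ by omega)]
      · exfalso; nlinarith
    obtain ⟨hp, -, hP⟩ := hneg
    rw [hp] at heq
    have hmain : (x + 8) * 9 * D ≤ x * (x + -1) ^ 2 * (1 + d) ^ 2 := by
      calc ((x : ℤ) + 8) * 9 * D ≤ Y₂ * Y₃ * D := mul_le_mul_of_nonneg_right hP hDpos.le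
        _ = _ := by linear_combination -heq
    have hXlt : X < 24 := by
      by_contra hc
      have hX24 : (24 : ℤ) ≤ X := by exact_mod_cast (not_lt.1 hc)
      have h1 : ((x : ℤ) + 8) * 9 * ((1 + d : ℤ) ^ 2 * ((X : ℤ) ^ 2 - 16 * X + 16)) ≤
          4 * (x * (x + -1) ^ 2) * (1 + d) ^ 2 := by
        calc _ ≤ ((x : ℤ) + 8) * 9 * (4 * D) := mul_le_mul_of_nonneg_left hD4 (by omega)
          _ ≤ _ := by linarith
      have h2 : ((x : ℤ) + 8) * 9 * ((X : ℤ) ^ 2 - 16 * X + 16) ≤ 4 * (x * (x + -1) ^ 2) :=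
        le_of_mul_le_mul_right (by linarith) (show (0 : ℤ) < (1 + d) ^ 2 by positivity)
      rw [show (x : ℤ) = X - 1 by omega] at h2
      nlinarith [mul_nonneg (mul_nonneg (show (0 : ℤ) ≤ (X : ℤ) - 24 by omega) (show (0 : ℤ) ≤ X by omega))
        (show (0 : ℤ) ≤ X by omega), mul_nonneg (show (0 : ℤ) ≤ (X : ℤ) - 24 by omega) (show (0 : ℤ) ≤ X by omega)]
    -- hence `X = 16`
    have hh : 2 ^ k = 2 := by omega
    have hk1 : X = 16 := by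
      rw [hh] at hdvd
      omega
    have hx15 : x = 15 := by omega
    subst hx15
    have hd5 : d = 3 := by
      by_contra hne
      obtain ⟨c, rfl⟩ := hd
      have : (5 : ℤ) ≤ ((2 * c + 1 : ℕ) : ℤ) := by omega
      rw [hD] at hmain
      push_cast at hmain this
      nlinarith [mul_nonneg (show (0 : ℤ) ≤ (2 * c + 1 : ℤ) - 5 by omega) (show (0 : ℤ) ≤ (2 * c + 1 : ℤ) by omega)]
    subst hd5
    refine ⟨hh, rfl, rfl, rfl, ?_⟩
    rw [hh] at hord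
    norm_num at hord
    have : (N : ℤ) = ((2520 * W : ℕ) : ℤ) := by push_cast; linarith
    exact_mod_cast this

end CfsgLib.GW
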