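import Cfsg.Agent.GW.A7End.Lower
import Cfsg.Agent.GW.A7End.Arith

/-!
# The degrees of the principal block: `n = 3`, `d = 3`, the order `2520 w ^ 3`
-/

set_option autoImplicit false
set_option linter.style.haveILetI false
set_option linter.unusedSectionVars false

namespace CfsgLib.GW

open Cfsg Finset CfsgLib.Block CfsgLib.Block.Chr CfsgLib.SectionCount CfsgLib.DihPrincipal
open scoped ComplexConjugate
open scoped Classical

universe u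

variable {G : Type u} [Group G] [Fintype G] [Fact (Nat.Prime 2)] {P : Sylow 2 G} {σ τ : G} {n : ℕ}
  (D : Data P σ τ n)
include D

theorem card_reflClass_mul (e : ℤ) (he : e = 0 ∨ e = 1) :
    (reflClass D e).card *
        (4 * Nat.card ↥(oddU D ⊓ Subgroup.centralizer ({σ ^ e * τ} : Set G))) =
      Nat.card (oddU D) * 2 ^ n := by
  have hr : σ ^ e * τ ∈ D.refl := D.rot_refl_mem (zpow_mem (Subgroup.mem_zpowers σ) e)
  have hP : σ ^ e * τ ∈ (P : Subgroup G) := mul_mem (zpow_mem D.σ_mem e) D.τ_mem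
  have hnot : σ ^ e * τ ∉ Subgroup.zpowers σ := by
    have := D.proj_refl hr
    rwa [D.proj_of_mem hP] at this
  have h := D.card_conj_image hr
  rw [← reflClass_eq D e he, card_centralizer_pair_eq D hP hnot, ← card_oddU_mul D] at h
  have h0 : ((4 * Nat.card ↥(oddU D ⊓ Subgroup.centralizer ({σ ^ e * τ} : Set G)) : ℕ) : ℚ) ≠ 0 :=
    Nat.cast_ne_zero.2 (Nat.mul_ne_zero (by norm_num) Nat.card_pos.ne')
  rw [mul_one_div, eq_div_iff h0] at h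
  exact_mod_cast h

/-- The principal 2-block in the surviving case. -/
structure Shape (D : Data P σ τ n) (M : Ideal AlgInt) (a φ b c : IrrCharacter G) : Prop where
  n_eq : n = 3
  d_eq : Nat.card (fixT D) = 3 * Nat.card (fixST D)
  order : ∃ w : ℕ, Nat.card (oddU D) = 3 * Nat.card (fixST D) * w ∧
    Nat.card G = 2520 * (Nat.card (fixST D) * w ^ 3)
  mem : a ∈ principalBlock M G ∧ φ ∈ principalBlock M G ∧ b ∈ principalBlock M G ∧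
    c ∈ principalBlock M G
  block : ∀ χ ∈ principalBlock M G, (χ : G → ℂ) = (fun _ => 1) ∨ χ = a ∨ χ = φ ∨ χ = b ∨ χ = c
  deg_a : (a : G → ℂ) 1 = 15
  deg_φ : (φ : G → ℂ) 1 = 14
  val : (φ : G → ℂ) σ = 0 ∧ (φ : G → ℂ) (σ ^ 2) = 2 ∧ (φ : G → ℂ) (σ ^ 3) = 0
  val_ne : (b : G → ℂ) (σ ^ 2) ≠ 2 ∧ (c : G → ℂ) (σ ^ 2) ≠ 2
  rel : ∀ ρ : G, Odd (orderOf ρ) → (a : G → ℂ) ρ = (φ : G → ℂ) ρ + 1 ∧
    ∃ e₂ e₃ : ℤ, (e₂ = 1 ∨ e₂ = -1) ∧ (e₃ = 1 ∨ e₃ = -1) ∧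
      e₂ * (b : G → ℂ) ρ + e₃ * (c : G → ℂ) ρ = (φ : G → ℂ) ρ
  ne : φ ≠ a ∧ φ ≠ b ∧ φ ≠ c ∧ a ≠ b ∧ a ≠ c ∧ b ≠ c ∧
    (φ : G → ℂ) ≠ (fun _ => 1) ∧ (a : G → ℂ) ≠ (fun _ => 1) ∧ (b : G → ℂ) ≠ (fun _ => 1) ∧
    (c : G → ℂ) ≠ (fun _ => 1)

variable (hN : Nested D)
include hN
variable {M : Ideal AlgInt} [M.IsPrime] (hM : IsPModular 2 M)
include hM

theorem shape [IsSimpleGroup G]
    (hconj : IsConj (σ ^ 2 ^ (n - 2)) τ ∧ IsConj (σ ^ 2 ^ (n - 2)) (σ * τ)) :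
    ∃ a φ b c : IrrCharacter G, Shape D M a φ b c := by
  letI := CfsgLib.Block.Chr.irrFintype (G := G)
  obtain ⟨ζ, hζ⟩ : ∃ ζ : ℂ, IsPrimitiveRoot ζ (2 ^ (n - 1)) :=
    ⟨_, Complex.isPrimitiveRoot_exp _ (by positivity)⟩
  obtain ⟨a₁, a₂, a₃, χ', δ₁, δ₂, δ₃, ⟨e1, e2, e3⟩, ⟨t1, t2, t3, t4⟩, hinj, hB, hv, hrel, hd', hd'0,
    K, hK, hE1, hE2⟩ := pair_equations D hM hconj hζ
  have hn := D.hn
  have hh2 := D.two_le_half
  have hq : 2 ^ (n - 1) = 2 * 2 ^ (n - 2) := two_mul_pow hn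
  have hqn : 2 ^ n = 4 * 2 ^ (n - 2) := by
    rw [show (4 : ℕ) = 2 ^ 2 by norm_num, ← pow_add, show 2 + (n - 2) = n by omega]
  have hev : ∀ l : ℕ, Even l → ((-1 : ℂ) ^ (l + 1)) = -1 := fun l hl => by
    rw [pow_succ, hl.neg_one_pow, one_mul]
  have hmem : a₁ ∈ principalBlock M G ∧ a₂ ∈ principalBlock M G ∧ a₃ ∈ principalBlock M G ∧
      ∀ j, χ' j ∈ principalBlock M G := by
    rw [hB]
    exact ⟨Or.inr (Or.inl rfl), Or.inr (Or.inr (Or.inl rfl)), Or.inr (Or.inr (Or.inr (Or.inl rfl))),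
      fun j => Or.inr (Or.inr (Or.inr (Or.inr ⟨j, rfl⟩)))⟩
  obtain ⟨y₀, hy₀, hy₀1, hy₀σ⟩ := exists_inverted D hN
  have hY : Subgroup.zpowers y₀ ≤ fixT D := Subgroup.zpowers_le.2 hy₀
  have hY1 : Subgroup.zpowers y₀ ≠ ⊥ := fun e =>
    hy₀1 ((Subgroup.eq_bot_iff_forall _).1 e _ (Subgroup.mem_zpowers y₀))
  have hσY : ∀ y ∈ Subgroup.zpowers y₀, σ * y * σ⁻¹ = y⁻¹ := fun y hy => by
    obtain ⟨i, rfl⟩ := Subgroup.mem_zpowers_iff.1 hy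
    rw [← conj_zpow, hy₀σ, inv_zpow]
  obtain ⟨lx, lxc⟩ := degree_lower D hN hM hY hY1 hσY hconj hmem.1 t1 (c := δ₁) e1
    (fun l _ h0 hl => (hv l h0 hl).1)
  obtain ⟨ly, -⟩ := degree_lower D hN hM hY hY1 hσY hconj hmem.2.1 t2 (c := -δ₂)
    (by rcases e2 with rfl | rfl <;> norm_num)
    (fun l hl h0 hl' => by rw [(hv l h0 hl').2.1, hev l hl]; push_cast; ring)
  obtain ⟨lz, -⟩ := degree_lower D hN hM hY hY1 hσY hconj hmem.2.2.1 t3 (c := -δ₃)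
    (by rcases e3 with rfl | rfl <;> norm_num)
    (fun l hl h0 hl' => by rw [(hv l h0 hl').2.2.1, hev l hl]; push_cast; ring)
  rw [hqn] at lx ly lz
  set x := charDegree (a₁ : G → ℂ) with hxdef
  set y₂ := charDegree (a₂ : G → ℂ) with hy2def
  set y₃ := charDegree (a₃ : G → ℂ) with hy3def
  have hx1 : (a₁ : G → ℂ) 1 = (x : ℂ) := (irr_one a₁).1
  have hy2 : (a₂ : G → ℂ) 1 = (y₂ : ℂ) := (irr_one a₂).1
  have hy3 : (a₃ : G → ℂ) 1 = (y₃ : ℂ) := (irr_one a₃).1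
  -- the two classes of reflections
  set d2 := Nat.card (fixST D) with hd2def
  obtain ⟨d, hd12⟩ : d2 ∣ Nat.card (fixT D) := hN.dvd
  have hA := card_reflClass_mul D 0 (Or.inl rfl)
  have hBc := card_reflClass_mul D 1 (Or.inr rfl)
  rw [zpow_zero, one_mul] at hA
  rw [zpow_one] at hBc
  change (reflClass D 0).card * (4 * Nat.card (fixT D)) = _ at hA
  change (reflClass D 1).card * (4 * d2) = _ at hBc
  set A := (reflClass D 0).card with hAdef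
  set B := (reflClass D 1).card with hBdef
  have hdU : Nat.card (fixT D) ∣ Nat.card (oddU D) := Subgroup.card_dvd_of_le inf_le_left
  obtain ⟨w, hw⟩ := hdU
  rw [hd12] at hw hA
  have hd20 : 0 < d2 := Nat.card_pos
  have hd0 : 0 < d := Nat.pos_of_ne_zero fun h => by
    rw [h, mul_zero] at hd12; exact Nat.card_pos.ne' hd12
  have hdodd : Odd d :=
    Odd.of_dvd_nat (odd_card_oddU D) ⟨d2 * w, by rw [hw]; ring⟩
  have hd3 : 3 ≤ d := by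
    have h1 : d ≠ 1 := fun h => hN.ne (by rw [hd12, h, mul_one])
    obtain ⟨c, hc⟩ := hdodd
    omega
  rw [hw, hqn] at hA hBc
  have hA' : A = 2 ^ (n - 2) * w := by
    refine Nat.eq_of_mul_eq_mul_right (show 0 < 4 * (d2 * d) from
      Nat.mul_pos (by norm_num) (Nat.mul_pos hd20 hd0)) ?_
    rw [hA]; ring
  have hB' : B = 2 ^ (n - 2) * (d * w) := by
    refine Nat.eq_of_mul_eq_mul_right (show 0 < 4 * d2 by omega) ?_
    rw [hBc]; ring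
  have hrefl : D.refl.card = A + B := by
    rw [refl_eq_union D, card_union_of_disjoint (disjoint_reflClass D)]
  have hw0 : (w : ℂ) ≠ 0 := by
    intro h
    have : Nat.card (oddU D) = 0 := by rw [hw, Nat.cast_eq_zero.1 h, mul_zero]
    exact Nat.card_pos.ne' this
  rw [hrefl, hA', hB'] at hE1
  rw [hA', hB'] at hE2
  push_cast at hE1 hE2
  set h : ℂ := (2 : ℂ) ^ (n - 2) with hhdef
  have hh0 : h ≠ 0 := pow_ne_zero _ two_ne_zero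
  have hxne : (x : ℂ) ≠ 0 := Nat.cast_ne_zero.2 (by omega)
  have hy2ne : (y₂ : ℂ) ≠ 0 := Nat.cast_ne_zero.2 (by omega)
  have hy3ne : (y₃ : ℂ) ≠ 0 := Nat.cast_ne_zero.2 (by omega)
  rw [hx1] at hE1 hE2 hd'0
  rw [hy2, hy3] at hE2
  have hδsq : (δ₁ : ℂ) ^ 2 = 1 := by rcases e1 with rfl | rfl <;> norm_num
  have h2sq : (δ₂ : ℂ) ^ 2 = 1 := by rcases e2 with rfl | rfl <;> norm_num
  have h3sq : (δ₃ : ℂ) ^ 2 = 1 := by rcases e3 with rfl | rfl <;> norm_num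
  have hj0 : 0 < 2 ^ (n - 2) - 1 := by omega
  -- the linear relation
  have hsum : (δ₂ : ℤ) * y₂ + δ₃ * y₃ = -δ₁ * (x + δ₁) := by
    have h1 := (hrel 1 (by simp) ⟨0, hj0⟩).1
    rw [hx1, hy2, hy3] at h1
    have : (((δ₂ : ℤ) * y₂ + δ₃ * y₃ : ℤ) : ℂ) = ((-δ₁ * (x + δ₁) : ℤ) : ℂ) := by
      push_cast; linear_combination h1 + hδsq
    exact_mod_cast this
  set X : ℂ := (x : ℂ) - δ₁ with hX
  set X' : ℂ := (x : ℂ) + δ₁ with hX'
  have hQ1 : (1 + (δ₁ : ℂ) / x - 4 * ((δ₁ : ℂ) / X')) * ((x : ℂ) * X') = X ^ 2 := by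
    have hne : (x : ℂ) + δ₁ ≠ 0 := hX' ▸ hd'0
    rw [hX, hX']
    field_simp
    ring
  have hsumC : (δ₂ : ℂ) * y₂ + δ₃ * y₃ = -δ₁ * X' := by
    rw [hX']; exact_mod_cast hsum
  have he : ((δ₂ : ℂ) / y₂ + (δ₃ : ℂ) / y₃) * (δ₂ * y₂ * (δ₃ * y₃)) = -δ₁ * X' := by
    have e' : ((δ₂ : ℂ) / y₂ + (δ₃ : ℂ) / y₃) * (δ₂ * y₂ * (δ₃ * y₃)) =
        (δ₂ : ℂ) ^ 2 * (δ₃ * y₃) + (δ₃ : ℂ) ^ 2 * (δ₂ * y₂) := by
      field_simp
    rw [e', h2sq, h3sq, ← hsumC]; ring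
  have heq : (δ₂ : ℤ) * y₂ * (δ₃ * y₃) *
      ((1 + d : ℤ) ^ 2 * (x + δ₁) ^ 2 - 4 * d * (x - δ₁) ^ 2) =
      δ₁ * x * (x + δ₁) ^ 2 * (1 + d) ^ 2 := by
    set Q1 : ℂ := 1 + (δ₁ : ℂ) / x - 4 * ((δ₁ : ℂ) / X') with hQ1def
    set Q2 : ℂ := 1 + (δ₁ : ℂ) / x + ((δ₂ : ℂ) / y₂ + (δ₃ : ℂ) / y₃) with hQ2def
    have hQ2 : Q2 * ((x : ℂ) * X' * (δ₂ * y₂ * (δ₃ * y₃))) =
        X' ^ 2 * (δ₂ * y₂ * (δ₃ * y₃)) - δ₁ * x * X' ^ 2 := by
      have e' : (1 + (δ₁ : ℂ) / x) * x = X' := by rw [hX']; field_simp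
      rw [hQ2def]
      linear_combination (X' * (δ₂ * y₂ * (δ₃ * y₃))) * e' + ((x : ℂ) * X') * he
    have h12 : 4 * (d : ℂ) * Q1 = (1 + d) ^ 2 * Q2 := by
      have e1' : 2 * (h ^ 2 * w ^ 2 * (1 + d) ^ 2) = K * Q1 := by linear_combination hE1
      have e2' : 8 * (h ^ 2 * w ^ 2 * d) = K * Q2 := by linear_combination hE2
      refine mul_left_cancel₀ (show (2 * (h ^ 2 * w ^ 2)) ≠ 0 by
        exact mul_ne_zero two_ne_zero (mul_ne_zero (pow_ne_zero 2 hh0) (pow_ne_zero 2 hw0))) ?_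
      linear_combination Q1 * e2' - Q2 * e1'
    have : (((δ₂ : ℤ) * y₂ * (δ₃ * y₃) *
        ((1 + d : ℤ) ^ 2 * (x + δ₁) ^ 2 - 4 * d * (x - δ₁) ^ 2) : ℤ) : ℂ) =
        ((δ₁ * x * (x + δ₁) ^ 2 * (1 + d) ^ 2 : ℤ) : ℂ) := by
      push_cast
      rw [← hX, ← hX']
      linear_combination (4 * (d : ℂ) * (δ₂ * y₂ * (δ₃ * y₃))) * hQ1 - (1 + (d : ℂ)) ^ 2 * hQ2 -
        ((x : ℂ) * X' * (δ₂ * y₂ * (δ₃ * y₃))) * h12
    exact_mod_cast this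
  have hord : ((Nat.card G : ℕ) : ℤ) * (x - δ₁) ^ 2 =
      8 * ((2 ^ (n - 2) : ℕ) : ℤ) ^ 3 * d * ((d2 * w ^ 3 : ℕ) : ℤ) * (1 + d) ^ 2 * (x * (x + δ₁)) := by
    have hc : (Nat.card (Subgroup.centralizer ({σ ^ 2 ^ (n - 2)} : Set G)) : ℂ) = d2 * d * w * (4 * h) := by
      rw [← card_oddU_mul D, hw, hqn]; push_cast; ring
    have : ((((Nat.card G : ℕ) : ℤ) * (x - δ₁) ^ 2 : ℤ) : ℂ) =
        ((8 * ((2 ^ (n - 2) : ℕ) : ℤ) ^ 3 * d * ((d2 * w ^ 3 : ℕ) : ℤ) * (1 + d) ^ 2 * (x * (x + δ₁)) : ℤ) : ℂ) := by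
      push_cast
      rw [← hK, hc, ← hX, ← hX', ← hhdef]
      linear_combination (-((d2 : ℂ) * d) * w * (4 * h) * ((x : ℂ) * X')) * hE1 - (K * (d2 * d * w * (4 * h))) * hQ1
    exact_mod_cast this
  obtain ⟨g, hg, hgo⟩ : ∃ g, Nat.card G = 4 * 2 ^ (n - 2) * g ∧ Odd g :=
    ⟨(P : Subgroup G).index, by rw [← (P : Subgroup G).card_mul_index, D.card_sylow, hqn],
      Nat.odd_iff.2 (Nat.two_dvd_ne_zero.1 P.not_dvd_index)⟩
  obtain ⟨hh, hd3', hx15, hδ, hN'⟩ := degree_arith ⟨n - 2, by omega, rfl⟩ hdodd hd3 e1 e2 e3 lx ly lz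
    hsum heq hg hgo hord
  have hn3 : n = 3 := by
    have : n - 2 = 1 := Nat.pow_right_injective le_rfl (hh.trans (pow_one 2).symm)
    omega
  subst hn3
  let j : Fin (2 ^ (3 - 2) - 1) := ⟨0, hj0⟩
  have hφ1 : (χ' j : G → ℂ) 1 = 14 := by
    rw [hd' j, hx1, hx15, hδ]; norm_num
  have hone : ∀ k, k = j := fun k => Fin.ext (by
    have h1 := k.2
    have h2 : (2 : ℕ) ^ (3 - 2) - 1 = 1 := rfl
    show (k : ℕ) = 0
    omega)
  have hζ2 : ζ ^ 2 = -1 := by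
    have h4 : ζ ^ 4 = 1 := hζ.pow_eq_one
    have h1 : ζ ^ 2 * ζ ^ 2 = 1 := by rw [← pow_add]; exact h4
    exact (mul_self_eq_one_iff.1 h1).resolve_left (hζ.pow_ne_one_of_pos_of_lt (by norm_num) (by norm_num))
  have hζ0 : ζ ≠ 0 := hζ.ne_zero (by norm_num)
  have hsumz : ζ + ζ⁻¹ = 0 := by
    have : ζ⁻¹ = -ζ := inv_eq_of_mul_eq_one_right (by linear_combination -hζ2)
    rw [this, add_neg_cancel]
  have hd'ne : ∀ a : IrrCharacter G, (a : G → ℂ) (σ ^ 1) ≠ 0 → χ' j ≠ a := fun a ha e => by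
    rw [← e, (hv 1 one_pos (by norm_num)).2.2.2 j] at ha
    refine ha ?_
    simp [j, hsumz]
  have hv1 := hv 1 one_pos (by norm_num)
  have hne1 : ∀ e : ℤ, (e = 1 ∨ e = -1) → ((e : ℂ) * (-1) ^ (1 + 1)) ≠ 0 := fun e he => by
    rcases he with rfl | rfl <;> norm_num
  have hdegne : ∀ p q : IrrCharacter G, (p : G → ℂ) 1 ≠ (q : G → ℂ) 1 → p ≠ q := fun p q hpq e =>
    hpq (by rw [e])
  refine ⟨a₁, χ' j, a₂, a₃, rfl, by rw [hd12, hd3', mul_comm], ⟨w, by rw [hw, hd3']; ring, hN'⟩,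
    ⟨hmem.1, hmem.2.2.2 j, hmem.2.1, hmem.2.2.1⟩, fun χ hχ => ?_, by rw [hx1, hx15]; norm_num, hφ1,
    ⟨?_, ?_, ?_⟩, ?_, fun ρ hρ => ?_, ?_⟩
  · rw [hB] at hχ
    rcases hχ with h | h | h | h | ⟨k, h⟩
    exacts [Or.inl h, Or.inr (Or.inl h), Or.inr (Or.inr (Or.inr (Or.inl h))),
      Or.inr (Or.inr (Or.inr (Or.inr h))), Or.inr (Or.inr (Or.inl (hone k ▸ h)))]
  · have h := (hv 1 one_pos (by norm_num)).2.2.2 j
    rw [pow_one] at h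
    rw [h]; simp [j, hsumz]
  · have h := (hv 2 two_pos (by norm_num)).2.2.2 j
    rw [h, hδ]; simp [j, hζ2]; norm_num
  · have h := (hv 3 (by norm_num) (by norm_num)).2.2.2 j
    rw [h, hδ]
    simp only [j, zero_add, one_mul]
    rw [pow_succ, hζ2]
    simp only [neg_mul, one_mul, inv_neg]
    linear_combination hsumz
  · have h := hv 2 two_pos (by norm_num)
    rw [h.2.1, h.2.2.1]
    constructor
    · rcases e2 with rfl | rfl <;> norm_num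
    · rcases e3 with rfl | rfl <;> norm_num
  · obtain ⟨r1, r2⟩ := hrel ρ hρ j
    rw [hδ] at r1 r2
    push_cast at r1 r2
    refine ⟨by linear_combination -r2, δ₂, δ₃, e2, e3, ?_⟩
    linear_combination r1 - r2
  · refine ⟨hd'ne _ ?_, hd'ne _ ?_, hd'ne _ ?_, ?_, ?_, ?_, t4 j, t1, t2, t3⟩
    · rw [hv1.1, hδ]; norm_num
    · rw [hv1.2.1]; exact hne1 _ e2
    · rw [hv1.2.2.1]; exact hne1 _ e3
    · intro e
      have hz := congrArg (fun χ : IrrCharacter G => (χ : G → ℂ) 1) e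
      simp only [hx1, hy2] at hz
      have : x = y₂ := by exact_mod_cast hz
      rw [hd3'] at heq
      rw [hx15, hδ, ← this, hx15] at hsum heq
      have h9 : 9 ≤ y₂ ∧ 9 ≤ y₃ := by norm_num at ly lz ⊢; omega
      rcases e2 with rfl | rfl <;> rcases e3 with rfl | rfl <;> norm_num at hsum heq <;> omega
    · intro e
      have hz := congrArg (fun χ : IrrCharacter G => (χ : G → ℂ) 1) e
      simp only [hx1, hy3] at hz
      have : x = y₃ := by exact_mod_cast hz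
      rw [hd3'] at heq
      rw [hx15, hδ, ← this, hx15] at hsum heq
      have h9 : 9 ≤ y₂ ∧ 9 ≤ y₃ := by norm_num at ly lz ⊢; omega
      rcases e2 with rfl | rfl <;> rcases e3 with rfl | rfl <;> norm_num at hsum heq <;> omega
    · intro e
      have hz := congrArg (fun χ : IrrCharacter G => (χ : G → ℂ) 1) e
      simp only [hy2, hy3] at hz
      have h23 : y₂ = y₃ := by exact_mod_cast hz
      rw [hx15, hδ] at hsum
      have h9 : 9 ≤ y₂ ∧ 9 ≤ y₃ := by norm_num at ly lz ⊢; omega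
      rcases e2 with rfl | rfl <;> rcases e3 with rfl | rfl <;> omega

end CfsgLib.GW
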