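import Cfsg.Agent.GW.A7End.Wone
import Cfsg.Agent.Char.AlgInt
import Cfsg.Agent.SmallSimple.Basic

/-!
# The order `68040` does not occur
-/

set_option autoImplicit false
set_option linter.style.haveILetI false
set_option linter.unusedSectionVars false

namespace CfsgLib.GW

open Cfsg Finset CfsgLib.Block CfsgLib.Block.Chr CfsgLib.SectionCount CfsgLib.DihPrincipal
open scoped ComplexConjugate
open scoped Classical

universe u

theorem free_card_dvd {G : Type u} [Group G] [Finite G] (R : Subgroup G) {S : Set G}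
    (hS : ∀ r ∈ R, ∀ y ∈ S, r * y * r⁻¹ ∈ S)
    (hfree : ∀ r ∈ R, ∀ y ∈ S, Commute r y → r = 1) : Nat.card R ∣ S.ncard := by
  letI : MulAction R ↥S :=
    { smul := fun r y => ⟨(r : G) * y * (r : G)⁻¹, hS r r.2 y y.2⟩
      one_smul := fun y => Subtype.ext (show (1 : G) * y * (1 : G)⁻¹ = y by group)
      mul_smul := fun r r' y => Subtype.ext (show ((r : G) * r') * y * ((r : G) * r')⁻¹ =
        (r : G) * ((r' : G) * y * (r' : G)⁻¹) * (r : G)⁻¹ by group) }
  have hstab : ∀ y : ↥S, MulAction.stabilizer R y = ⊥ := fun y =>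
    (Subgroup.eq_bot_iff_forall _).2 fun r hr => Subtype.ext (hfree r r.2 y y.2
      (mul_inv_eq_iff_eq_mul.1 (congrArg Subtype.val (MulAction.mem_stabilizer_iff.1 hr))))
  rw [← Nat.card_coe_set_eq, Nat.card_congr (MulAction.selfEquivOrbitsQuotientProd hstab),
    Nat.card_prod]
  exact dvd_mul_left _ _

/-- A proper subgroup of a `p`-subgroup is normalised by an element outside it. -/
theorem exists_mem_normalizer {G : Type u} [Group G] [Finite G] {p : ℕ} [Fact p.Prime]
    {R Q : Subgroup G} (hQ : IsPGroup p Q) (hle : R ≤ Q) (hne : ¬ Q ≤ R) :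
    ∃ x ∈ Q, x ∉ R ∧ x ∈ Subgroup.normalizer (R : Set G) := by
  haveI := hQ.isNilpotent
  have hne' : R.subgroupOf Q < ⊤ :=
    lt_top_iff_ne_top.2 fun h => hne (Subgroup.subgroupOf_eq_top.1 h)
  obtain ⟨x, hx, hxR⟩ := SetLike.exists_of_lt
    (normalizerCondition_of_isNilpotent (R.subgroupOf Q) hne')
  refine ⟨x, x.2, hxR, ?_⟩
  rw [Subgroup.mem_normalizer_iff] at hx ⊢
  intro y
  constructor
  · intro hy
    exact (hx ⟨y, hle hy⟩).1 hy
  · intro hy
    have hyQ : y ∈ Q := by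
      have := mul_mem (mul_mem (inv_mem x.2) (hle hy)) x.2
      rwa [show (x : G)⁻¹ * ((x : G) * y * (x : G)⁻¹) * x = y by group] at this
    exact (hx ⟨y, hyQ⟩).2 hy

variable {G : Type u} [Group G] [Fintype G] [Fact (Nat.Prime 2)] {P : Sylow 2 G} {σ τ : G} {n : ℕ}
  (D : Data P σ τ n)
include D
variable (hst : oddU D ⊓ Subgroup.centralizer ({σ * τ} : Set G) = ⊥)
include hst

theorem conj_tau_prod {d v : G} (hd : d ∈ fixT D) (hv : v ∈ fixS D) :
    τ * (d * v) * τ⁻¹ = d * v⁻¹ := by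
  rw [show τ * (d * v) * τ⁻¹ = τ * d * τ⁻¹ * (τ * v * τ⁻¹) by group, tau_inverts D hst hv,
    (Subgroup.mem_centralizer_singleton_iff.1 hd.2).symm, mul_inv_cancel_right]

theorem conj_sigma_prod {d v : G} (hd : d ∈ fixT D) (hv : v ∈ fixS D) :
    σ * (d * v) * σ⁻¹ = (d * v⁻¹)⁻¹ := by
  have hc : Commute v σ := Subgroup.mem_centralizer_singleton_iff.1 hv.2
  rw [show σ * (d * v) * σ⁻¹ = σ * d * σ⁻¹ * (σ * v * σ⁻¹) by group, sigma_inverts D hst hd,
    ← hc.eq, mul_inv_cancel_right, mul_inv_rev, inv_inv]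
  exact oddU_comm D hst (inv_mem hd.1) hv.1

variable (hd : fixT D ≠ ⊥)
include hd
variable {M : Ideal AlgInt} [M.IsPrime] (hM : IsPModular 2 M)
include hM
variable {a φ b c : IrrCharacter G} (Sh : Shape D M a φ b c) {d v : G} (hB : Big D φ d v)
include Sh hB

theorem facts : orderOf d ∣ 9 ∧ orderOf v ∣ 9 ∧ Odd (orderOf (d * v)) ∧
    d * v ≠ (d * v)⁻¹ ∧ d * v ≠ d * v⁻¹ ∧ d * v ≠ (d * v⁻¹)⁻¹ ∧ (d * v)⁻¹ ≠ d * v⁻¹ ∧
    (d * v)⁻¹ ≠ (d * v⁻¹)⁻¹ ∧ d * v⁻¹ ≠ (d * v⁻¹)⁻¹ := by
  have ho : ∀ x ∈ oddU D, orderOf x ∣ 9 := fun x hx => hB.card_U ▸ Subgroup.orderOf_dvd_natCard _ hx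
  have hodd : ∀ x ∈ oddU D, x ≠ 1 → x ≠ x⁻¹ := fun x hx h1 e => by
    have h2 : orderOf x ∣ 2 := orderOf_dvd_of_pow_eq_one (by
      rw [sq]; exact mul_eq_one_iff_eq_inv.2 e)
    exact h1 (orderOf_eq_one_iff.1 (Nat.eq_one_of_dvd_coprimes
      (Nat.coprime_two_left.2 ((mem_oddU_iff D).1 hx).2) h2 (dvd_refl _)))
  have hdU := hB.d_mem.1
  have hvU := hB.v_mem.1
  have hd2 := hodd d hdU hB.d_ne
  have hv2 := hodd v hvU hB.v_ne
  have hn1 : d * v ≠ 1 := fun e => by
    have := hB.val; rw [e, Sh.deg_φ] at this; norm_num at this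
  have hn2 : d * v⁻¹ ≠ 1 := fun e => by
    have h := conj_tau_prod D hst hB.d_mem hB.v_mem
    rw [e, mul_inv_eq_one] at h
    exact hn1 (mul_left_cancel (h.trans (mul_one τ).symm))
  refine ⟨ho d hdU, ho v hvU, ((mem_oddU_iff D).1 (mul_mem hdU hvU)).2,
    hodd _ (mul_mem hdU hvU) hn1, fun e => hv2 (mul_left_cancel e), fun e => ?_, fun e => ?_,
    fun e => hv2 (mul_left_cancel (inv_injective e)), hodd _ (mul_mem hdU (inv_mem hvU)) hn2⟩
  · rw [oddU_comm D hst hdU hvU, mul_inv_rev, inv_inv] at e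
    exact hd2 (mul_left_cancel e)
  · rw [mul_inv_rev, oddU_comm D hst hdU (inv_mem hvU)] at e
    exact hd2 (mul_left_cancel e).symm

theorem centralizer_two_part {x : G} (hxg : Commute x (d * v))
    (hxz : x ∈ Subgroup.centralizer ({σ ^ 2 ^ (n - 2)} : Set G))
    (hx : ∃ k : ℕ, orderOf x = 2 ^ k) : x = 1 ∨ x = σ ^ 2 ^ (n - 2) := by
  obtain ⟨-, -, -, n1, n2, n3, n4, n5, n6⟩ := facts D hst hd hM Sh hB
  have hdU := hB.d_mem.1
  have hvU := hB.v_mem.1
  have hgU := mul_mem hdU hvU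
  set g := d * v with hg
  -- the component in the Sylow subgroup
  set p := D.ret ⟨x, hxz⟩ with hp
  have hpP : (p : G) ∈ (P : Subgroup G) := p.2
  set u := (p : G)⁻¹ * x with hu
  have huU : u ∈ oddU D := by
    refine Subgroup.mem_map.2 ⟨⟨u, mul_mem (inv_mem (D.le_centralizer hpP)) hxz⟩, ?_, rfl⟩
    rw [← D.ker_ret, MonoidHom.mem_ker]
    have : (⟨u, mul_mem (inv_mem (D.le_centralizer hpP)) hxz⟩ :
        Subgroup.centralizer ({σ ^ 2 ^ (n - 2)} : Set G)) = (⟨p, D.le_centralizer hpP⟩)⁻¹ * ⟨x, hxz⟩ :=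
      Subtype.ext rfl
    rw [this, map_mul, map_inv, D.ret_apply p, ← hp, inv_mul_cancel]
  have hxpu : x = (p : G) * u := by rw [hu, mul_inv_cancel_left]
  have hpg : Commute (p : G) g := by
    have h : Commute (x * u⁻¹) g := hxg.mul_left (show Commute u g from oddU_comm D hst huU hgU).inv_left
    rwa [hxpu, mul_inv_cancel_right] at h
  have hσg := conj_sigma_prod D hst hB.d_mem hB.v_mem
  have hτg := conj_tau_prod D hst hB.d_mem hB.v_mem
  have h4 : orderOf σ = 4 := by rw [D.ordσ, Sh.n_eq]; rfl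
  have hev : ∀ k : ℤ, Commute (σ ^ (2 * k)) g := fun k => by
    have hc : Commute v σ := Subgroup.mem_centralizer_singleton_iff.1 hB.v_mem.2
    exact (even_rot_commute D hst k hB.d_mem).mul_right (hc.symm.zpow_left _)
  have hodd : ∀ k : ℤ, σ ^ (2 * k + 1) * g * (σ ^ (2 * k + 1))⁻¹ = (d * v⁻¹)⁻¹ := fun k => by
    rw [add_comm, zpow_one_add, mul_inv_rev, show σ * σ ^ (2 * k) * g * ((σ ^ (2 * k))⁻¹ * σ⁻¹) =
      σ * (σ ^ (2 * k) * g * (σ ^ (2 * k))⁻¹) * σ⁻¹ by group, (hev k).eq, mul_inv_cancel_right, hσg]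
  have hpz : (p : G) = 1 ∨ (p : G) = σ ^ 2 ^ (n - 2) := by
    have hcj : (p : G) * g * (p : G)⁻¹ = g := by rw [hpg.eq, mul_inv_cancel_right]
    rcases D.cases _ hpP with h | h <;> obtain ⟨i, hi⟩ := Subgroup.mem_zpowers_iff.1 h <;>
      obtain ⟨k, rfl | rfl⟩ := Int.even_or_odd' i
    · refine D.eq_z h ?_
      rw [← hi, ← zpow_add]
      refine orderOf_dvd_iff_zpow_eq_one.1 ?_
      rw [h4]; exact ⟨k, by push_cast; ring⟩
    · rw [← hi, hodd k] at hcj
      exact absurd hcj.symm n3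
    all_goals
      have hp' : (p : G) = σ ^ (Int.ofNat 0 + 0) * (σ ^ (Int.ofNat 0))⁻¹ * ((p : G) * τ * τ) := by
        simp [mul_assoc, CfsgLib.Invol.mul_self_eq_one D.ordτ]
      rw [← hi] at hp'
      simp only [Int.ofNat_eq_natCast, Nat.cast_zero, add_zero, zpow_zero, inv_one, one_mul] at hp'
      rw [hp', mul_inv_rev, show ∀ A : G, A * τ * g * (τ⁻¹ * A⁻¹) = A * (τ * g * τ⁻¹) * A⁻¹ from
        fun A => by group, hτg] at hcj
    · rw [show d * v⁻¹ = τ * g * τ⁻¹ from hτg.symm] at n2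
      have hc : Commute (σ ^ (2 * k)) (d * v⁻¹) := by
        have hv' : Commute v σ := Subgroup.mem_centralizer_singleton_iff.1 hB.v_mem.2
        exact (even_rot_commute D hst k hB.d_mem).mul_right (hv'.symm.zpow_left _).inv_right
      rw [hc.eq, mul_inv_cancel_right] at hcj
      exact absurd hcj.symm (hτg ▸ n2)
    · have h2 := hodd k
      have h3 : σ ^ (2 * k + 1) * (d * v⁻¹) * (σ ^ (2 * k + 1))⁻¹ = (d * v)⁻¹ := by
        have h := conj_sigma_prod D hst hB.d_mem (inv_mem hB.v_mem)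
        rw [inv_inv] at h
        have hc : Commute (σ ^ (2 * k)) (d * v⁻¹) := by
          have hv' : Commute v σ := Subgroup.mem_centralizer_singleton_iff.1 hB.v_mem.2
          exact (even_rot_commute D hst k hB.d_mem).mul_right (hv'.symm.zpow_left _).inv_right
        rw [add_comm, zpow_one_add, mul_inv_rev,
          show σ * σ ^ (2 * k) * (d * v⁻¹) * ((σ ^ (2 * k))⁻¹ * σ⁻¹) =
            σ * (σ ^ (2 * k) * (d * v⁻¹) * (σ ^ (2 * k))⁻¹) * σ⁻¹ by group,
          hc.eq, mul_inv_cancel_right, h]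
      rw [h3] at hcj
      exact absurd hcj.symm n1
  -- the odd component is trivial
  have hcpu : Commute (p : G) u := by
    rcases hpz with e | e <;> rw [e]
    · exact Commute.one_left u
    · exact (Subgroup.mem_centralizer_singleton_iff.1 (oddU_le D huU)).symm
  obtain ⟨k, hk⟩ := hx
  have hu1 : u = 1 := by
    have h1 : u ^ 2 ^ (k + 1) = 1 := by
      have h := pow_orderOf_eq_one x
      rw [hk, hxpu, hcpu.mul_pow] at h
      have h2 : ((p : G) ^ 2 ^ k) ^ 2 = 1 := by
        rw [← pow_mul, mul_comm, pow_mul]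
        rcases hpz with e | e <;> rw [e]
        · simp
        · rw [sq, D.z_sq, one_pow]
      rw [mul_eq_one_iff_eq_inv] at h
      rw [pow_succ, pow_mul]
      rw [h, inv_pow, inv_eq_one] at h2
      exact h2
    exact orderOf_eq_one_iff.1 (Nat.eq_one_of_dvd_coprimes
      ((Nat.coprime_two_left.2 ((mem_oddU_iff D).1 huU).2).pow_left (k + 1))
      (orderOf_dvd_of_pow_eq_one h1) (dvd_refl _))
  rw [hxpu, hu1, mul_one]
  exact hpz

theorem card_centralizer_prod :
    Nat.card (Subgroup.centralizer ({d * v} : Set G)) = 486 := by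
  letI := CfsgLib.Block.Chr.irrFintype (G := G)
  obtain ⟨-, -, hodd, -, -, -, -, -, -⟩ := facts D hst hd hM Sh hB
  set g := d * v with hg
  set C := Subgroup.centralizer ({g} : Set G) with hC
  have hidx : Nat.card C * C.index = 68040 := by rw [C.card_mul_index, hB.card_G]
  obtain ⟨hag, e₂, e₃, he₂, he₃, hbc⟩ := Sh.rel g hodd
  rw [hB.val] at hag hbc
  -- the lower bound
  have hlow : 178 ≤ Nat.card C := by
    have h := column_orth (G := G) g g
    rw [if_pos (IsConj.refl g)] at h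
    have h' : (Nat.card C : ℝ) = ∑ χ : IrrCharacter G, Complex.normSq ((χ : G → ℂ) g) := by
      have : ((Nat.card C : ℝ) : ℂ) = ((∑ χ : IrrCharacter G, Complex.normSq ((χ : G → ℂ) g) : ℝ) : ℂ) := by
        push_cast
        rw [← h]
        exact sum_congr rfl fun χ _ => Complex.mul_conj _
      exact_mod_cast this
    obtain ⟨n1, n2, n3, n4, n5, n6, n7, n8, n9, n10⟩ := Sh.ne
    have hone : ∀ χ : IrrCharacter G, (χ : G → ℂ) ≠ (fun _ => 1) → χ ≠ oneIrr G := fun χ hχ e =>
      hχ (by rw [e]; exact funext oneIrr_apply)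
    have hsub : ∑ χ ∈ ({oneIrr G, a, φ, b, c} : Finset (IrrCharacter G)),
        Complex.normSq ((χ : G → ℂ) g) ≤ (Nat.card C : ℝ) := by
      rw [h']
      exact sum_le_sum_of_subset_of_nonneg (subset_univ _) fun χ _ _ => Complex.normSq_nonneg _
    rw [sum_insert (by simp [(hone a n8).symm, (hone φ n7).symm, (hone b n9).symm, (hone c n10).symm]),
      sum_insert (by simp [Ne.symm n1, n4, n5]), sum_insert (by simp [n2, n3]),
      sum_insert (by simp [n6]), sum_singleton, oneIrr_apply, hag, hB.val] at hsub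
    have h64 : (64 : ℝ) ≤ 2 * (Complex.normSq ((b : G → ℂ) g) + Complex.normSq ((c : G → ℂ) g)) := by
      have h1 : Complex.normSq ((e₂ : ℂ) * (b : G → ℂ) g + (e₃ : ℂ) * (c : G → ℂ) g) = 64 := by
        rw [hbc]; norm_num [Complex.normSq_apply]
      rw [← h1]
      rcases he₂ with rfl | rfl <;> rcases he₃ with rfl | rfl <;>
        simp [Complex.normSq_apply] <;>
        nlinarith [sq_nonneg (((b : G → ℂ) g).re - ((c : G → ℂ) g).re),
          sq_nonneg (((b : G → ℂ) g).im - ((c : G → ℂ) g).im),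
          sq_nonneg (((b : G → ℂ) g).re + ((c : G → ℂ) g).re),
          sq_nonneg (((b : G → ℂ) g).im + ((c : G → ℂ) g).im)]
    norm_num [Complex.normSq_apply, -Nat.card_eq_fintype_card] at hsub
    have : (178 : ℝ) ≤ (Nat.card C : ℝ) := by
      simp [Complex.normSq_apply] at h64
      linarith
    exact_mod_cast this
  -- five and seven do not divide it
  have h7 : 7 ∣ C.index := by
    have h := centralChar_isIntegral φ g
    rw [centralChar, hB.val, Sh.deg_φ] at h
    have : 14 ∣ C.index * 8 := CfsgLib.Char.dvd_of_isIntegral_div (by norm_num)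
      (by convert h using 1; push_cast; rw [hC])
    omega
  have h5 : 5 ∣ C.index := by
    have h := centralChar_isIntegral a g
    rw [centralChar, hag, Sh.deg_a] at h
    have : 15 ∣ C.index * 9 := CfsgLib.Char.dvd_of_isIntegral_div (by norm_num)
      (by convert h using 1; push_cast; rw [hC]; norm_num)
    omega
  have hdvd : Nat.card C ∣ 1944 := by
    obtain ⟨e, he⟩ : 35 ∣ C.index := Nat.Coprime.mul_dvd_of_dvd_of_dvd (m := 5) (n := 7) (by norm_num) h5 h7
    exact ⟨e, by rw [he] at hidx; nlinarith⟩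
  -- the 2-part
  set z := σ ^ 2 ^ (n - 2) with hz
  have hzC : z ∈ C := Subgroup.mem_centralizer_singleton_iff.2
    (Subgroup.mem_centralizer_singleton_iff.1 (oddU_le D (mul_mem hB.d_mem.1 hB.v_mem.1))).symm
  have h2 : 2 ∣ Nat.card C := D.orderOf_z ▸ Subgroup.orderOf_dvd_natCard _ hzC
  have h4 : ¬ 4 ∣ Nat.card C := by
    intro h4
    have hzp : IsPGroup 2 (Subgroup.zpowers (⟨z, hzC⟩ : C)) := IsPGroup.of_card (n := 1) (by
      rw [Nat.card_zpowers, Subgroup.orderOf_mk, D.orderOf_z, pow_one])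
    obtain ⟨Q, hQ⟩ := hzp.exists_le_sylow
    set Q' := (Q : Subgroup C).map C.subtype with hQ'
    have hQc : Nat.card Q' = Nat.card Q := Subgroup.card_subtype C (Q : Subgroup C)
    have h4Q : 4 ∣ Nat.card Q' := hQc ▸ Q.pow_dvd_card_of_pow_dvd_card (n := 2) h4
    have hQ2 : IsPGroup 2 Q' := Q.2.map C.subtype
    have hzQ : Subgroup.zpowers z ≤ Q' :=
      Subgroup.zpowers_le.2 ⟨⟨z, hzC⟩, hQ (Subgroup.mem_zpowers _), rfl⟩
    obtain ⟨x, hxQ, hxz, hxN⟩ := exists_mem_normalizer hQ2 hzQ fun hle => by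
      have h := Subgroup.card_dvd_of_le hle
      rw [Nat.card_zpowers, D.orderOf_z] at h
      have := h4Q.trans h
      omega
    have hcx : Commute x z := by
      obtain ⟨i, hi⟩ := Subgroup.mem_zpowers_iff.1 ((Subgroup.mem_normalizer_iff.1 hxN z).1
        (Subgroup.mem_zpowers z))
      rw [← zpow_mod_orderOf, D.orderOf_z] at hi
      rcases (show i % ((2 : ℕ) : ℤ) = 0 ∨ i % ((2 : ℕ) : ℤ) = 1 by omega) with e | e <;>
        rw [e] at hi
      · rw [zpow_zero, eq_comm, mul_inv_eq_one] at hi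
        exact absurd (mul_left_cancel (hi.trans (mul_one x).symm)) D.z_ne_one
      · rw [zpow_one] at hi
        exact eq_mul_inv_iff_mul_eq.1 hi |>.symm
    obtain ⟨⟨x', hx'⟩, hx'Q, rfl⟩ := hxQ
    obtain ⟨k, hk⟩ := IsPGroup.iff_orderOf.1 hQ2 ⟨x', ⟨⟨x', hx'⟩, hx'Q, rfl⟩⟩
    rw [← Subgroup.orderOf_coe] at hk
    rcases centralizer_two_part D hst hd hM Sh hB (Subgroup.mem_centralizer_singleton_iff.1 hx')
      (Subgroup.mem_centralizer_singleton_iff.2 hcx.eq) ⟨k, hk⟩ with e | e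
    · exact hxz (by show x' ∈ _; rw [e]; exact one_mem _)
    · exact hxz (by show x' ∈ _; rw [e]; exact Subgroup.mem_zpowers _)
  have hmem : Nat.card C ∈ Nat.divisors 1944 := Nat.mem_divisors.2 ⟨hdvd, by norm_num⟩
  have hlist : ∀ m ∈ Nat.divisors 1944, 178 ≤ m → 2 ∣ m → ¬ 4 ∣ m → m = 486 := by decide +kernel
  exact hlist _ hmem hlow h2 h4

theorem false_of_big [IsSimpleGroup G] : False := by
  haveI : Fact (Nat.Prime 3) := ⟨Nat.prime_three⟩
  obtain ⟨-, -, hoddg, n1, n2, n3, n4, n5, n6⟩ := facts D hst hd hM Sh hB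
  have hτg := conj_tau_prod D hst hB.d_mem hB.v_mem
  have hσg := conj_sigma_prod D hst hB.d_mem hB.v_mem
  have hcardC := card_centralizer_prod D hst hd hM Sh hB
  have hgU : d * v ∈ oddU D := mul_mem hB.d_mem.1 hB.v_mem.1
  have hg'U : d * v⁻¹ ∈ oddU D := mul_mem hB.d_mem.1 (inv_mem hB.v_mem.1)
  set g := d * v with hg
  set g' := d * v⁻¹ with hg'
  set C := Subgroup.centralizer ({g} : Set G) with hC
  -- the Sylow 3-subgroup
  obtain ⟨Q₀, hQ₀⟩ := Sylow.exists_subgroup_card_pow_prime (G := C) 3 (n := 5)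
    (by rw [hcardC]; norm_num)
  haveI : Q₀.Normal := Subgroup.normal_of_index_eq_two (by
    have := Q₀.card_mul_index
    rw [hQ₀, hcardC] at this
    omega)
  set Q := Q₀.map C.subtype with hQdef
  have hQcard : Nat.card Q = 243 := by rw [hQdef, Subgroup.card_subtype, hQ₀]; rfl
  have hQp : IsPGroup 3 Q := IsPGroup.of_card (n := 5) (by rw [hQcard]; rfl)
  have hQC : Q ≤ C := Subgroup.map_subtype_le _
  have hoddQ : ∀ x ∈ Q, Odd (orderOf x) := fun x hx =>
    Odd.of_dvd_nat (hQcard ▸ (by decide : Odd 243)) (Subgroup.orderOf_dvd_natCard _ hx)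
  have hmemQ : ∀ x ∈ C, Odd (orderOf x) → x ∈ Q := by
    intro x hx ho
    refine Subgroup.mem_map.2 ⟨⟨x, hx⟩, ?_, rfl⟩
    rw [← QuotientGroup.eq_one_iff, ← orderOf_eq_one_iff]
    refine Nat.eq_one_of_dvd_coprimes (Nat.coprime_two_left.2 ho) ?_ ?_
    · have h2 : Q₀.index = 2 := by
        have := Q₀.card_mul_index
        rw [hQ₀, hcardC] at this
        omega
      rw [← h2, Subgroup.index]
      exact orderOf_dvd_natCard _
    · rw [← Subgroup.orderOf_mk _ hx]
      exact orderOf_map_dvd (QuotientGroup.mk' Q₀) _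
  set R := Q ⊓ Subgroup.centralizer ({g'} : Set G) with hRdef
  have hR : ∀ x, x ∈ R ↔ Commute x g ∧ Commute x g' ∧ Odd (orderOf x) := by
    intro x
    refine ⟨fun h => ⟨Subgroup.mem_centralizer_singleton_iff.1 (hQC h.1),
      Subgroup.mem_centralizer_singleton_iff.1 h.2, hoddQ x h.1⟩,
      fun ⟨h1, h2, h3⟩ => ⟨hmemQ x (Subgroup.mem_centralizer_singleton_iff.2 h1.eq) h3,
        Subgroup.mem_centralizer_singleton_iff.2 h2.eq⟩⟩
  -- invariance under the Sylow 2-subgroup
  have hττ := CfsgLib.Invol.mul_self_eq_one D.ordτ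
  have hτi := CfsgLib.Invol.inv_eq_self D.ordτ
  have hτg' : τ * g' * τ⁻¹ = g := by
    rw [← hτg, hτi, show τ * (τ * g * τ) * τ = (τ * τ) * g * (τ * τ) by simp only [mul_assoc],
      hττ, one_mul, mul_one]
  have hσg' : σ * g' * σ⁻¹ = g⁻¹ := by
    have h := conj_sigma_prod D hst hB.d_mem (inv_mem hB.v_mem)
    rwa [inv_inv] at h
  have hconjR : ∀ s : G, (Commute (s * g * s⁻¹) g ∧ s * g * s⁻¹ = g' ∧ s * g' * s⁻¹ = g ∨
      s * g * s⁻¹ = g'⁻¹ ∧ s * g' * s⁻¹ = g⁻¹) → ∀ x ∈ R, s * x * s⁻¹ ∈ R := by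
    intro s hs x hx
    obtain ⟨h1, h2, h3⟩ := (hR x).1 hx
    have k1 : Commute (s * x * s⁻¹) (s * g * s⁻¹) := h1.map (MulAut.conj s).toMonoidHom
    have k2 : Commute (s * x * s⁻¹) (s * g' * s⁻¹) := h2.map (MulAut.conj s).toMonoidHom
    have k3 : Odd (orderOf (s * x * s⁻¹)) := by rwa [CfsgLib.Invol.orderOf_conj_eq]
    rcases hs with ⟨-, e1, e2⟩ | ⟨e1, e2⟩ <;> rw [e1] at k1 <;> rw [e2] at k2
    · exact (hR _).2 ⟨k2, k1, k3⟩
    · exact (hR _).2 ⟨by simpa using k2.inv_right, by simpa using k1.inv_right, k3⟩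
  have hτR : ∀ x ∈ R, τ * x * τ⁻¹ ∈ R := hconjR τ
    (Or.inl ⟨hτg ▸ oddU_comm D hst hg'U hgU, hτg, hτg'⟩)
  have hσR : ∀ x ∈ R, σ * x * σ⁻¹ ∈ R := hconjR σ (Or.inr ⟨hσg, hσg'⟩)
  have hUR : ∀ u ∈ oddU D, u ∈ R := fun u hu => (hR u).2
    ⟨oddU_comm D hst hu hgU, oddU_comm D hst hu hg'U, ((mem_oddU_iff D).1 hu).2⟩
  have hP : (P : Subgroup G) ≤ Subgroup.normalizer (R : Set G) := by
    have hs : ∀ s : G, (∀ x ∈ R, s * x * s⁻¹ ∈ R) → s ∈ Subgroup.normalizer (R : Set G) := fun s h =>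
      Subgroup.mem_normalizer_fintype h
    intro s hs'
    rcases D.cases s hs' with h | h <;> obtain ⟨i, hi⟩ := Subgroup.mem_zpowers_iff.1 h
    · exact hi ▸ zpow_mem (hs σ hσR) i
    · rw [show s = σ ^ i * τ by rw [hi, mul_assoc, hττ, mul_one]]
      exact mul_mem (zpow_mem (hs σ hσR) i) (hs τ hτR)
  -- the orbits outside the odd part of the centraliser of the involution
  set z := σ ^ 2 ^ (n - 2) with hz
  have hfour : 4 ∣ Nat.card R - 9 := by
    have h4 : orderOf σ = 4 := by rw [D.ordσ, Sh.n_eq]; rfl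
    have hset : ((R : Set G) \ (oddU D : Set G)).ncard = Nat.card R - 9 := by
      rw [Set.ncard_diff (fun u hu => hUR u hu) (Set.toFinite _), ← Nat.card_coe_set_eq,
        ← Nat.card_coe_set_eq, ← hB.card_U]
      rfl
    rw [← hset, ← h4, ← Nat.card_zpowers]
    refine free_card_dvd _ ?_ ?_
    · intro r hr y hy
      have hrP : r ∈ (P : Subgroup G) := D.le_sylow hr
      refine ⟨(Subgroup.mem_normalizer_iff.1 (hP hrP) y).1 hy.1, fun hU => hy.2 ?_⟩
      have h := conj_mem_oddU D (inv_mem (D.le_centralizer hrP)) hU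
      rwa [show r⁻¹ * (r * y * r⁻¹) * r⁻¹⁻¹ = y by group] at h
    · intro r hr y hy hc
      by_contra hr1
      refine hy.2 ((mem_oddU_iff D).2 ⟨?_, ((hR y).1 hy.1).2.2⟩)
      obtain ⟨m, hm⟩ := D.exists_pow_eq_z hr hr1
      rw [Subgroup.mem_centralizer_singleton_iff, ← hm]
      exact (hc.pow_left m).eq.symm
  -- an element of the Sylow 3-subgroup moving the four elements among themselves fixes both
  have hfix : ∀ x ∈ Q, (x * g' * x⁻¹ = g ∨ x * g' * x⁻¹ = g⁻¹ ∨ x * g' * x⁻¹ = g' ∨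
      x * g' * x⁻¹ = g'⁻¹) → x ∈ R := by
    intro x hx h
    have hxg : x * g * x⁻¹ = g := by
      rw [Subgroup.mem_centralizer_singleton_iff.1 (hQC hx), mul_inv_cancel_right]
    have hxgi : x * g⁻¹ * x⁻¹ = g⁻¹ := by rw [← conj_inv, hxg]
    rcases h with h | h | h | h
    · exact absurd (mul_left_cancel (mul_right_cancel (h.trans hxg.symm))) n2.symm
    · exact absurd (mul_left_cancel (mul_right_cancel (h.trans hxgi.symm))) n4.symm
    · exact ⟨hx, Subgroup.mem_centralizer_singleton_iff.2 (mul_inv_eq_iff_eq_mul.1 h)⟩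
    · have h2 : Commute (x ^ 2) g' := by
        refine mul_inv_eq_iff_eq_mul.1 ?_
        rw [sq, show x * x * g' * (x * x)⁻¹ = x * (x * g' * x⁻¹) * x⁻¹ by group, h, ← conj_inv, h,
          inv_inv]
      obtain ⟨m, hm⟩ := exists_pow_eq_self_of_coprime (x := x) (n := 2)
        (Nat.coprime_two_left.2 (hoddQ x hx))
      exact ⟨hx, Subgroup.mem_centralizer_singleton_iff.2 (hm ▸ h2.pow_left m).eq⟩
  have hRQ : R ≤ Q := inf_le_left
  have hg'R : g' ∈ R := hUR _ hg'U
  -- the order of `R`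
  obtain ⟨i, hi, hRi⟩ : ∃ i ≤ 5, Nat.card R = 3 ^ i :=
    (Nat.dvd_prime_pow Nat.prime_three).1 (by
      have := Subgroup.card_dvd_of_le hRQ
      rwa [hQcard, show (243 : ℕ) = 3 ^ 5 by rfl] at this)
  have h9R : 9 ≤ Nat.card R := hB.card_U ▸ Nat.le_of_dvd Nat.card_pos
    (Subgroup.card_dvd_of_le (fun u hu => hUR u hu))
  have hi24 : i = 2 ∨ i = 4 := by
    interval_cases i <;> omega
  have hne : ¬ Q ≤ R := by
    intro h
    have := Subgroup.card_dvd_of_le h
    rw [hQcard, hRi] at this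
    have := Nat.le_of_dvd (by positivity) this
    rcases hi24 with rfl | rfl <;> omega
  obtain ⟨x, hxQ, hxR, hxN⟩ := exists_mem_normalizer hQp hRQ hne
  refine hxR (hfix x hxQ ?_)
  rcases hi24 with rfl | rfl
  · -- `R` is the odd part of the centraliser of the involution
    have hRU : oddU D = R := Subgroup.eq_of_le_of_card_ge (fun u hu => hUR u hu)
      (by rw [hRi, hB.card_U]; norm_num)
    have hmem : x * g' * x⁻¹ ∈ oddU D := hRU ▸ (Subgroup.mem_normalizer_iff.1 hxN g').1 hg'R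
    refine hB.cases _ hmem ?_
    rw [← hB.val, ← hg, ← hτg', show τ * g' * τ⁻¹ = g from hτg']
    refine (CfsgLib.Char.IsClassFunction.apply_eq_of_isConj (isClassFunction_irr φ) ?_).symm
    exact (isConj_iff.2 ⟨τ, hτg⟩).trans (isConj_iff.2 ⟨x, rfl⟩)
  · -- the normaliser of `R` has order `1944`
    set N := Subgroup.normalizer (R : Set G) with hN
    have hQN : Q ≤ N := by
      have h81 : ∀ y ∈ R, y ∈ Q ⊓ N := fun y hy => ⟨hRQ hy, Subgroup.le_normalizer hy⟩
      have hlt : Nat.card R < Nat.card ↥(Q ⊓ N) := by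
        refine lt_of_le_of_ne (Subgroup.card_le_of_le h81) fun e => hxR ?_
        rw [Subgroup.eq_of_le_of_card_ge h81 e.ge]
        exact ⟨hxQ, hxN⟩
      have hd' : Nat.card ↥(Q ⊓ N) ∣ 3 ^ 5 := by
        rw [show (3 : ℕ) ^ 5 = 243 by rfl, ← hQcard]
        exact Subgroup.card_dvd_of_le inf_le_left
      obtain ⟨j, hj, hje⟩ := (Nat.dvd_prime_pow Nat.prime_three).1 hd'
      rw [hje, hRi] at hlt
      have h45 := (Nat.pow_lt_pow_iff_right (by norm_num : 1 < 3)).1 hlt
      have heq : Q ⊓ N = Q := Subgroup.eq_of_le_of_card_ge inf_le_left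
        (by rw [hje, hQcard, show j = 5 by omega]; rfl)
      exact inf_eq_left.1 heq
    have hNtop : N ≠ ⊤ := by
      intro h
      haveI : R.Normal := Subgroup.normalizer_eq_top_iff.1 h
      rcases IsSimpleGroup.eq_bot_or_eq_top_of_normal R inferInstance with e | e
      · rw [e, Subgroup.card_bot] at hRi; norm_num at hRi
      · have h0 := hRi; rw [e, Subgroup.card_top, hB.card_G] at h0; norm_num at h0
    have hdvd : 1944 ∣ Nat.card N := by
      have h8 : 8 ∣ Nat.card N := by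
        have := Subgroup.card_dvd_of_le hP
        rwa [D.card_sylow, Sh.n_eq] at this
      have h243 : 243 ∣ Nat.card N := hQcard ▸ Subgroup.card_dvd_of_le hQN
      exact Nat.Coprime.mul_dvd_of_dvd_of_dvd (m := 8) (n := 243) (by norm_num) h8 h243
    have hNcard : Nat.card N = 1944 := by
      obtain ⟨e, he⟩ := hdvd
      have h := N.card_mul_index
      rw [he, hB.card_G] at h
      have h35 : N.index ∣ 35 := ⟨e, by nlinarith⟩
      have hf := CfsgLib.SmallSimple.card_dvd_factorial N hNtop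
      rw [hB.card_G] at hf
      have hmem : N.index ∈ Nat.divisors 35 := Nat.mem_divisors.2 ⟨h35, by norm_num⟩
      have hl : ∀ m ∈ Nat.divisors 35, ¬ (68040 ∣ Nat.factorial m ∧ m ≤ 7) := by decide +kernel
      have h7 : 7 < N.index := not_le.1 fun h7 => hl _ hmem ⟨hf, h7⟩
      have h35' : N.index = 35 := by
        have := Nat.le_of_dvd (by norm_num) h35
        interval_cases N.index <;> first | rfl | norm_num at h35
      rw [h35'] at h
      nlinarith
    have hCN : C ≤ N := by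
      have hle : Q ⊔ Subgroup.zpowers z ≤ C := sup_le hQC (Subgroup.zpowers_le.2
        (Subgroup.mem_centralizer_singleton_iff.2
          (Subgroup.mem_centralizer_singleton_iff.1 (oddU_le D hgU)).symm))
      have hcard : Nat.card C ≤ Nat.card ↥(Q ⊔ Subgroup.zpowers z) := by
        have hd1 := Subgroup.card_dvd_of_le (le_sup_left : Q ≤ Q ⊔ Subgroup.zpowers z)
        have hd2 := Subgroup.card_dvd_of_le (le_sup_right : Subgroup.zpowers z ≤ Q ⊔ Subgroup.zpowers z)
        rw [Nat.card_zpowers, D.orderOf_z] at hd2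
        rw [hQcard] at hd1
        rw [hcardC]
        exact Nat.le_of_dvd Nat.card_pos
          (Nat.Coprime.mul_dvd_of_dvd_of_dvd (m := 243) (n := 2) (by norm_num) hd1 hd2)
      rw [← Subgroup.eq_of_le_of_card_ge hle hcard]
      exact sup_le hQN (Subgroup.zpowers_le.2 (hP (D.le_sylow Data.z_mem_zpowers)))
    -- the four conjugates of `g`
    let SN : Finset G := univ.filter (· ∈ N)
    let conjg : G → G := fun y => y * g * y⁻¹
    have hSN : SN.card = 1944 := by
      rw [← hNcard, Nat.card_eq_fintype_card, Fintype.card_subtype]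
    have hfib : ∀ w ∈ SN.image conjg, (SN.filter fun y => conjg y = w).card = 486 := by
      intro w hw
      obtain ⟨y₀, hy₀, rfl⟩ := mem_image.1 hw
      have hy₀N : y₀ ∈ N := (mem_filter.1 hy₀).2
      rw [← hcardC, Nat.card_eq_fintype_card, Fintype.card_subtype]
      refine card_bij' (fun y _ => y₀⁻¹ * y) (fun y _ => y₀ * y) ?_ ?_ ?_ ?_
      · intro y hy
        obtain ⟨-, h2⟩ := mem_filter.1 hy
        refine mem_filter.2 ⟨mem_univ _, Subgroup.mem_centralizer_singleton_iff.2 ?_⟩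
        have h3 : y * g * y⁻¹ = y₀ * g * y₀⁻¹ := h2
        calc y₀⁻¹ * y * g = y₀⁻¹ * (y * g * y⁻¹) * y := by group
          _ = g * (y₀⁻¹ * y) := by rw [h3]; group
      · intro y hy
        have hyC : y ∈ C := (mem_filter.1 hy).2
        refine mem_filter.2 ⟨mem_filter.2 ⟨mem_univ _, mul_mem hy₀N (hCN hyC)⟩, ?_⟩
        show y₀ * y * g * (y₀ * y)⁻¹ = y₀ * g * y₀⁻¹
        rw [mul_assoc y₀ y, Subgroup.mem_centralizer_singleton_iff.1 hyC]; group
      · intro y _; group
      · intro y _; group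
    have himg : (SN.image conjg).card = 4 := by
      have h := card_eq_sum_card_image conjg SN
      rw [sum_congr rfl hfib, sum_const, smul_eq_mul, hSN] at h
      omega
    have hin : ∀ y ∈ N, conjg y ∈ SN.image conjg := fun y hy =>
      mem_image_of_mem _ (mem_filter.2 ⟨mem_univ _, hy⟩)
    have hσN : σ ∈ N := hP D.σ_mem
    have hτN : τ ∈ N := hP D.τ_mem
    have hsub : ({g, g⁻¹, g', g'⁻¹} : Finset G) ⊆ SN.image conjg := by
      intro y hy
      simp only [mem_insert, mem_singleton] at hy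
      rcases hy with rfl | rfl | rfl | rfl
      · have := hin 1 (one_mem N)
        simpa [conjg] using this
      · have := hin (σ * τ) (mul_mem hσN hτN)
        rwa [show conjg (σ * τ) = σ * (τ * g * τ⁻¹) * σ⁻¹ by simp only [conjg]; group, hτg, hσg'] at this
      · have := hin τ hτN
        rwa [show conjg τ = g' from hτg] at this
      · have := hin σ hσN
        rwa [show conjg σ = g'⁻¹ from hσg] at this
    have hfour' : ({g, g⁻¹, g', g'⁻¹} : Finset G).card = 4 := by
      rw [card_insert_of_notMem (by simp [n1, n2, n3]), card_insert_of_notMem (by simp [n4, n5]),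
        card_pair n6]
    have hx4 : x * g' * x⁻¹ ∈ SN.image conjg := by
      have := hin (x * τ) (mul_mem (hQN hxQ) hτN)
      rwa [show conjg (x * τ) = x * (τ * g * τ⁻¹) * x⁻¹ by simp only [conjg]; group, hτg] at this
    rw [← eq_of_subset_of_card_le hsub (by omega)] at hx4
    simpa only [mem_insert, mem_singleton] using hx4

end CfsgLib.GW
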