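import Cfsg.Agent.GW.A7End.Pair
import Cfsg.Agent.Frobenius.Fpf
import Cfsg.Agent.Kinf.PairSimple

/-!
# Degrees of principal block characters: the congruence on the fixed points of a reflection
-/

set_option autoImplicit false
set_option linter.style.haveILetI false
set_option linter.unusedSectionVars false

namespace CfsgLib.GW

open Cfsg Finset CfsgLib.Block CfsgLib.Block.Chr CfsgLib.SectionCount CfsgLib.DihPrincipal
open CfsgLib.SL2C
open scoped ComplexConjugate
open scoped Classical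

universe u

theorem exists_mult_hom {A : Type*} [Group A] [Fintype A] {G : Type u} [Group G] [Fintype G]
    (f : A →* G) (hf : Function.Injective f) (χ : IrrCharacter G) (μ : A →* ℂˣ) :
    ∃ k : ℕ, (Nat.card A : ℂ) * k = ∑ a : A, (χ : G → ℂ) (f a) * conj (μ a : ℂ) := by
  set e : A ≃* f.range := MonoidHom.ofInjective hf
  obtain ⟨k, hk⟩ := CfsgLib.FrobeniusSylow.exists_restrict_mult f.range χ (μ.comp e.symm.toMonoidHom)
  refine ⟨k, ?_⟩
  rw [Nat.card_congr e.toEquiv, hk]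
  refine (Fintype.sum_equiv e.toEquiv _ _ fun a => ?_).symm
  simp only [MulEquiv.toEquiv_eq_coe, MulEquiv.coe_toEquiv, MonoidHom.comp_apply,
    MulEquiv.coe_toMonoidHom, MulEquiv.symm_apply_apply]
  rfl

variable {G : Type u} [Group G] [Fintype G] [Fact (Nat.Prime 2)] {P : Sylow 2 G} {σ τ : G} {n : ℕ}
  (D : Data P σ τ n)
include D

theorem conj_mem_oddU {c y : G} (hc : c ∈ Subgroup.centralizer ({σ ^ 2 ^ (n - 2)} : Set G))
    (hy : y ∈ oddU D) : c * y * c⁻¹ ∈ oddU D := by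
  rw [mem_oddU_iff] at hy ⊢
  exact ⟨mul_mem (mul_mem hc hy.1) (inv_mem hc), by rw [CfsgLib.Invol.orderOf_conj_eq]; exact hy.2⟩

/-- The fixed points of `τ` on the odd part. -/
noncomputable def fixT (D : Data P σ τ n) : Subgroup G :=
  oddU D ⊓ Subgroup.centralizer ({τ} : Set G)

variable (hst : oddU D ⊓ Subgroup.centralizer ({σ * τ} : Set G) = ⊥)
include hst

theorem st_inverts {y : G} (hy : y ∈ oddU D) : σ * τ * y * (σ * τ)⁻¹ = y⁻¹ := by
  have hsC : σ * τ ∈ Subgroup.centralizer ({σ ^ 2 ^ (n - 2)} : Set G) :=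
    D.le_centralizer (mul_mem D.σ_mem D.τ_mem)
  let a : MulAut (oddU D) :=
    { toFun := fun v => ⟨σ * τ * v * (σ * τ)⁻¹, conj_mem_oddU D hsC v.2⟩
      invFun := fun v => ⟨(σ * τ)⁻¹ * v * (σ * τ), by
        have := conj_mem_oddU D (inv_mem hsC) v.2
        rwa [inv_inv] at this⟩
      left_inv := fun v => Subtype.ext (by simp [mul_assoc])
      right_inv := fun v => Subtype.ext (by simp [mul_assoc])
      map_mul' := fun v w => Subtype.ext (by simp [mul_assoc]) }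
  have h := CfsgLib.Frobenius.fpf_inv a (fun v hv => Subtype.ext ?_) ?_ ⟨y, hy⟩
  · exact congrArg Subtype.val h
  · have h1 : (v : G) ∈ oddU D ⊓ Subgroup.centralizer ({σ * τ} : Set G) := by
      refine ⟨v.2, Subgroup.mem_centralizer_singleton_iff.2 ?_⟩
      have h2 : σ * τ * v * (σ * τ)⁻¹ = (v : G) := congrArg Subtype.val hv
      calc (v : G) * (σ * τ) = σ * τ * v * (σ * τ)⁻¹ * (σ * τ) := by rw [h2]
        _ = σ * τ * v := inv_mul_cancel_right _ _
    rw [hst] at h1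
    exact Subgroup.mem_bot.1 h1
  · refine MulEquiv.ext fun v => Subtype.ext ?_
    show σ * τ * (σ * τ * v * (σ * τ)⁻¹) * (σ * τ)⁻¹ = (v : G)
    have hi : (σ * τ)⁻¹ = σ * τ := inv_eq_of_mul_eq_one_right (sigma_mul_tau_sq D)
    rw [hi, show σ * τ * (σ * τ * (v : G) * (σ * τ)) * (σ * τ) =
      (σ * τ * (σ * τ)) * v * (σ * τ * (σ * τ)) by simp only [mul_assoc],
      sigma_mul_tau_sq D, one_mul, mul_one]

theorem oddU_comm {a b : G} (ha : a ∈ oddU D) (hb : b ∈ oddU D) : a * b = b * a := by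
  have h1 := st_inverts D hst (mul_mem ha hb)
  have h2 : σ * τ * (a * b) * (σ * τ)⁻¹ = a⁻¹ * b⁻¹ := by
    rw [show σ * τ * (a * b) * (σ * τ)⁻¹ =
      (σ * τ * a * (σ * τ)⁻¹) * (σ * τ * b * (σ * τ)⁻¹) by group,
      st_inverts D hst ha, st_inverts D hst hb]
  rw [h2] at h1
  simpa using congrArg (·⁻¹) h1.symm

theorem sigma_inverts {y : G} (hy : y ∈ fixT D) : σ * y * σ⁻¹ = y⁻¹ := by
  have h := Subgroup.mem_centralizer_singleton_iff.1 hy.2
  have h2 := st_inverts D hst hy.1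
  rw [show σ * τ * y * (σ * τ)⁻¹ = σ * (τ * y) * τ⁻¹ * σ⁻¹ by group, ← h] at h2
  rw [← h2]; group

theorem even_rot_commute (k : ℤ) {y : G} (hy : y ∈ fixT D) : Commute (σ ^ (2 * k)) y := by
  have h1 : Commute (σ ^ (2 : ℤ)) y := by
    refine mul_inv_eq_iff_eq_mul.1 ?_
    calc σ ^ (2 : ℤ) * y * (σ ^ (2 : ℤ))⁻¹ = σ * (σ * y * σ⁻¹) * σ⁻¹ := by simp [zpow_ofNat, sq, mul_assoc]
      _ = y := by rw [sigma_inverts D hst hy, ← conj_inv, sigma_inverts D hst hy, inv_inv]
  rw [zpow_mul]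
  exact h1.zpow_left k

omit hst

/-- The fixed points of `σ * τ` on the odd part. -/
noncomputable def fixST (D : Data P σ τ n) : Subgroup G :=
  oddU D ⊓ Subgroup.centralizer ({σ * τ} : Set G)

/-- The order of the fixed points of `σ * τ` is a proper divisor of that of the fixed points of
`τ`, which `σ ^ 2` centralises. -/
structure Nested (D : Data P σ τ n) : Prop where
  dvd : Nat.card (fixST D) ∣ Nat.card (fixT D)
  ne : Nat.card (fixST D) ≠ Nat.card (fixT D)
  sq : ∀ y ∈ fixT D, Commute (σ ^ 2) y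

/-- The configuration with one group of fixed points inside the other. -/
theorem nested_of_lt (h : fixST D < fixT D) (hsq : ∀ y ∈ fixT D, Commute (σ ^ 2) y) : Nested D where
  dvd := Subgroup.card_dvd_of_le h.le
  ne e := h.ne (Subgroup.eq_of_le_of_card_ge h.le e.ge)
  sq := hsq

/-- For a Sylow 2-subgroup of order eight the square of `σ` is the central involution. -/
theorem nested_of_eight (hn : n = 3) (h : Nat.card (fixST D) ∣ Nat.card (fixT D))
    (hne : Nat.card (fixST D) ≠ Nat.card (fixT D)) : Nested D where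
  dvd := h
  ne := hne
  sq y hy := by
    have h2 := Subgroup.mem_centralizer_singleton_iff.1 (oddU_le D hy.1)
    rw [hn] at h2
    norm_num at h2
    exact h2.symm

theorem nested_of_bot (hst : oddU D ⊓ Subgroup.centralizer ({σ * τ} : Set G) = ⊥)
    (hd : fixT D ≠ ⊥) : Nested D where
  dvd := by rw [fixST, hst, Subgroup.card_bot]; exact one_dvd _
  ne := by
    rw [fixST, hst, Subgroup.card_bot]
    exact fun e => hd (Subgroup.eq_bot_of_card_eq _ e.symm)
  sq y hy := by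
    have h := even_rot_commute D hst 1 hy
    rwa [mul_one, zpow_ofNat] at h

variable (hN : Nested D)
include hN

theorem Nested.rot_commute (k : ℤ) {y : G} (hy : y ∈ fixT D) : Commute (σ ^ (2 * k)) y := by
  rw [zpow_mul, zpow_ofNat]
  exact (hN.sq y hy).zpow_left k

/-- A nontrivial fixed point of `τ` inverted by `σ`. -/
theorem exists_inverted : ∃ y ∈ fixT D, y ≠ 1 ∧ σ * y * σ⁻¹ = y⁻¹ := by
  obtain ⟨x, hx, hxn⟩ := SetLike.not_le_iff_exists.1 fun hle : fixT D ≤ fixST D =>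
    hN.ne (Nat.dvd_antisymm hN.dvd (Subgroup.card_dvd_of_le hle))
  have hc := hN.sq x hx
  have hσC := D.le_centralizer D.σ_mem
  have hx' : σ * x * σ⁻¹ ∈ fixT D := by
    refine ⟨conj_mem_oddU D hσC hx.1, Subgroup.mem_centralizer_singleton_iff.2 ?_⟩
    have hxτ : Commute x τ := Subgroup.mem_centralizer_singleton_iff.1 hx.2
    have h1 : τ * σ * τ⁻¹ = σ⁻¹ := D.rel
    have h2 : σ⁻¹ * x * σ = σ * x * σ⁻¹ := by
      rw [eq_mul_inv_iff_mul_eq, mul_assoc, ← sq, mul_assoc, ← hc.eq, ← mul_assoc, sq, inv_mul_cancel_left]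
    refine (mul_inv_eq_iff_eq_mul.1 ?_).symm
    calc τ * (σ * x * σ⁻¹) * τ⁻¹ = (τ * σ * τ⁻¹) * (τ * x * τ⁻¹) * (τ * σ * τ⁻¹)⁻¹ := by group
      _ = σ * x * σ⁻¹ := by rw [h1, ← hxτ.eq, mul_inv_cancel_right, inv_inv, h2]
  refine ⟨x⁻¹ * (σ * x * σ⁻¹), mul_mem (inv_mem hx) hx', fun e => hxn ?_, ?_⟩
  · rw [inv_mul_eq_one] at e
    refine ⟨hx.1, Subgroup.mem_centralizer_singleton_iff.2 ?_⟩
    have hxτ : Commute x τ := Subgroup.mem_centralizer_singleton_iff.1 hx.2
    have hxσ : Commute x σ := (mul_inv_eq_iff_eq_mul.1 e.symm).symm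
    exact (hxσ.mul_right hxτ).eq
  · have h2 : σ * (σ * x * σ⁻¹) * σ⁻¹ = x := by
      rw [show σ * (σ * x * σ⁻¹) * σ⁻¹ = σ ^ 2 * x * (σ ^ 2)⁻¹ by simp [sq, mul_assoc], hc.eq,
        mul_inv_cancel_right]
    rw [show σ * (x⁻¹ * (σ * x * σ⁻¹)) * σ⁻¹ = (σ * x * σ⁻¹)⁻¹ * (σ * (σ * x * σ⁻¹) * σ⁻¹) by group,
      h2]
    group

/-- The part of the Sylow subgroup centralising `fixT`. -/
noncomputable def centP (D : Data P σ τ n) : Subgroup G :=
  (P : Subgroup G) ⊓ Subgroup.centralizer (fixT D : Set G)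

theorem zpow_mem_centP (k e : ℤ) (he : e = 0 ∨ e = 1) : σ ^ (2 * k) * τ ^ e ∈ centP D := by
  refine ⟨mul_mem (zpow_mem D.σ_mem _) (zpow_mem D.τ_mem _), Subgroup.mem_centralizer_iff.2
    fun y hy => ?_⟩
  have hc : Commute τ y := (Subgroup.mem_centralizer_singleton_iff.1 hy.2).symm
  exact ((hN.rot_commute D k hy).mul_left (hc.zpow_left e)).eq.symm

theorem sigma_not_mem_centP : σ ∉ centP D := by
  intro h
  obtain ⟨y, hy, hy1, h2⟩ := exists_inverted D hN
  have h1 : y * σ = σ * y := Subgroup.mem_centralizer_iff.1 h.2 y hy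
  rw [← h1, mul_inv_cancel_right] at h2
  have ho : Odd (orderOf y) := ((mem_oddU_iff D).1 hy.1).2
  have h3 : orderOf y ∣ 2 := orderOf_dvd_of_pow_eq_one (by rw [sq, ← inv_mul_cancel y, ← h2])
  rcases (Nat.dvd_prime Nat.prime_two).1 h3 with h4 | h4
  · exact hy1 (orderOf_eq_one_iff.1 h4)
  · rw [h4] at ho; exact absurd ho (by decide)

theorem centP_cases {s : G} (hs : s ∈ centP D) :
    ∃ k : ℤ, s = σ ^ (2 * k) ∨ s = σ ^ (2 * k) * τ := by
  have hodd : ∀ (k e : ℤ), (e = 0 ∨ e = 1) → σ ^ (2 * k + 1) * τ ^ e ∉ centP D := by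
    intro k e he hm
    have h2 := mul_mem (inv_mem (zpow_mem_centP D hN k 0 (Or.inl rfl))) hm
    rw [zpow_zero, mul_one, ← zpow_neg, ← mul_assoc, ← zpow_add,
      show -(2 * k) + (2 * k + 1) = 1 by ring, zpow_one] at h2
    rcases he with rfl | rfl
    · rw [zpow_zero, mul_one] at h2
      exact sigma_not_mem_centP D hN h2
    · rw [zpow_one] at h2
      have h3 := zpow_mem_centP D hN 0 1 (Or.inr rfl)
      rw [mul_zero, zpow_zero, one_mul, zpow_one] at h3
      have h4 := mul_mem h2 (inv_mem h3)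
      rw [mul_inv_cancel_right] at h4
      exact sigma_not_mem_centP D hN h4
  rcases D.cases s hs.1 with h | h <;> obtain ⟨i, hi⟩ := Subgroup.mem_zpowers_iff.1 h <;>
    obtain ⟨k, rfl | rfl⟩ := Int.even_or_odd' i
  · exact ⟨k, Or.inl hi.symm⟩
  · exact absurd hs (by rw [← hi, ← mul_one (σ ^ (2 * k + 1)), ← zpow_zero τ]; exact hodd k 0 (Or.inl rfl))
  · exact ⟨k, Or.inr (by rw [hi, mul_assoc, CfsgLib.Invol.mul_self_eq_one D.ordτ, mul_one])⟩
  · have hs' : s = σ ^ (2 * k + 1) * τ ^ (1 : ℤ) := by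
      rw [hi, zpow_one, mul_assoc, CfsgLib.Invol.mul_self_eq_one D.ordτ, mul_one]
    exact absurd (hs' ▸ hs) (hodd k 1 (Or.inr rfl))

theorem card_centP : Nat.card (centP D) = 2 ^ (n - 1) := by
  have hle : centP D ≤ (P : Subgroup G) := inf_le_left
  have hidx : ((centP D).subgroupOf (P : Subgroup G)).index = 2 := by
    refine Subgroup.index_eq_two_iff.2 ⟨⟨σ, D.σ_mem⟩, fun b => ?_⟩
    simp only [Subgroup.mem_subgroupOf, Subgroup.coe_mul]
    have hσ := sigma_not_mem_centP D hN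
    by_cases hb : (b : G) ∈ centP D
    · exact Or.inr ⟨hb, fun h => hσ (by simpa using mul_mem (inv_mem hb) h)⟩
    · refine Or.inl ⟨?_, hb⟩
      rcases D.cases _ b.2 with h | h <;> obtain ⟨i, hi⟩ := Subgroup.mem_zpowers_iff.1 h <;>
        obtain ⟨k, rfl | rfl⟩ := Int.even_or_odd' i
      · exact absurd (by rw [← hi]; simpa using zpow_mem_centP D hN k 0 (Or.inl rfl)) hb
      · rw [← hi, ← zpow_add_one, show 2 * k + 1 + 1 = 2 * (k + 1) by ring]
        simpa using zpow_mem_centP D hN (k + 1) 0 (Or.inl rfl)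
      · refine absurd ?_ hb
        rw [show (b : G) = σ ^ (2 * k) * τ ^ (1 : ℤ) by
          rw [hi, zpow_one, mul_assoc, CfsgLib.Invol.mul_self_eq_one D.ordτ, mul_one]]
        exact zpow_mem_centP D hN k 1 (Or.inr rfl)
      · rw [show (b : G) * σ = σ ^ (2 * k) * τ ^ (1 : ℤ) by
          rw [show (b : G) = σ ^ (2 * k + 1) * τ by
              rw [hi, mul_assoc, CfsgLib.Invol.mul_self_eq_one D.ordτ, mul_one],
            mul_assoc, show τ * σ = σ⁻¹ * τ from mul_inv_eq_iff_eq_mul.1 D.rel, ← mul_assoc,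
            ← zpow_sub_one, zpow_one, show 2 * k + 1 - 1 = 2 * k by ring]]
        exact zpow_mem_centP D hN k 1 (Or.inr rfl)
  have h := ((centP D).subgroupOf (P : Subgroup G)).card_mul_index
  rw [hidx, Nat.card_congr (Subgroup.subgroupOfEquivOfLe hle).toEquiv, D.card_sylow,
    show 2 ^ n = 2 ^ (n - 1) * 2 by
      rw [← pow_succ, show n - 1 + 1 = n by have := D.hn; omega]] at h
  exact Nat.mul_right_cancel two_pos h

variable {M : Ideal AlgInt} [M.IsPrime] (hM : IsPModular 2 M)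
include hM

/-- The congruence and the lower bound. -/
theorem degree_lower [IsSimpleGroup G] {Y : Subgroup G} (hY : Y ≤ fixT D) (hY1 : Y ≠ ⊥)
    (hσY : ∀ y ∈ Y, σ * y * σ⁻¹ = y⁻¹)
    (hconj : IsConj (σ ^ 2 ^ (n - 2)) τ ∧ IsConj (σ ^ 2 ^ (n - 2)) (σ * τ))
    {χ : IrrCharacter G} (hχ : χ ∈ principalBlock M G) (h1 : (χ : G → ℂ) ≠ fun _ => 1)
    {c : ℤ} (hc : c = 1 ∨ c = -1)
    (hval : ∀ l : ℕ, Even l → 0 < l → l < 2 ^ (n - 1) → (χ : G → ℂ) (σ ^ l) = c) :
    2 ^ n + 1 ≤ charDegree (χ : G → ℂ) ∧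
      ((2 ^ (n - 1) : ℕ) : ℤ) ∣ (charDegree (χ : G → ℂ) : ℤ) - c := by
  have hh2 := D.two_le_half
  have hq : 2 ^ (n - 1) = 2 * 2 ^ (n - 2) := two_mul_pow D.hn
  have hcl : ∀ {a b : G}, IsConj a b → (χ : G → ℂ) a = (χ : G → ℂ) b := fun h =>
    CfsgLib.Char.IsClassFunction.apply_eq_of_isConj (isClassFunction_irr χ) h
  -- the values on the nontrivial elements of `centP` times `fixT`
  have hvals : ∀ s ∈ centP D, s ≠ 1 → ∀ y ∈ Y, (χ : G → ℂ) (s * y) = c := by
    intro s hs hs1 y hy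
    have ho : Odd (orderOf y) := ((mem_oddU_iff D).1 (hY hy).1).2
    have hcom : Commute s y := (Subgroup.mem_centralizer_iff.1 hs.2 y (hY hy)).symm
    obtain ⟨k, rfl | rfl⟩ := centP_cases D hN hs
    · rw [rot_apply D hM hχ (zpow_mem (Subgroup.mem_zpowers σ) _) hs1 hcom ho]
      set m : ℤ := (2 * k) % ((2 ^ (n - 1) : ℕ) : ℤ) with hm
      have h0 := Int.emod_nonneg (2 * k) (show ((2 ^ (n - 1) : ℕ) : ℤ) ≠ 0 by simp)
      have hlt := Int.emod_lt_of_pos (2 * k) (show (0 : ℤ) < ((2 ^ (n - 1) : ℕ) : ℤ) by positivity)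
      have hsm : σ ^ (2 * k) = σ ^ m.toNat := by
        rw [← zpow_natCast, Int.toNat_of_nonneg h0, ← D.ordσ, zpow_mod_orderOf]
      have hev : (2 : ℤ) ∣ m := by
        rw [hm, Int.emod_def]
        refine dvd_sub (dvd_mul_right _ _) (dvd_mul_of_dvd_left ?_ _)
        rw [hq]; push_cast; exact dvd_mul_right _ _
      rw [hsm] at hs1 ⊢
      refine hval _ ?_ (Nat.pos_of_ne_zero fun h => hs1 (by rw [h, pow_zero])) (by omega)
      rw [even_iff_two_dvd]; omega
    · rw [z_conj_apply D hM hχ (zpow_refl_conj D hconj) hcom ho]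
      refine hval _ (Nat.even_pow.2 ⟨even_two, by have := D.hn; omega⟩) (by omega) (by omega)
  -- the product
  let f : centP D × Y →* G :=
    { toFun := fun p => (p.1 : G) * p.2
      map_one' := by simp
      map_mul' := fun p q => by
        have hcom : (q.1 : G) * p.2 = (p.2 : G) * q.1 :=
          (Subgroup.mem_centralizer_iff.1 q.1.2.2 _ (hY p.2.2)).symm
        simp only [Prod.fst_mul, Prod.snd_mul, Subgroup.coe_mul]
        calc (p.1 : G) * q.1 * ((p.2 : G) * q.2) = p.1 * (q.1 * p.2) * q.2 := by group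
          _ = _ := by rw [hcom]; group }
  have hfi : Function.Injective f := by
    refine (injective_iff_map_eq_one f).2 fun p hp => ?_
    have hp' : (p.1 : G) = (p.2 : G)⁻¹ := eq_inv_of_mul_eq_one_left hp
    have h2 : Odd (orderOf (p.1 : G)) := by
      rw [hp', orderOf_inv]; exact ((mem_oddU_iff D).1 (hY p.2.2).1).2
    obtain ⟨k, hk⟩ := IsPGroup.iff_orderOf.1 P.2 ⟨(p.1 : G), p.1.2.1⟩
    rw [Subgroup.orderOf_mk] at hk
    rw [hk] at h2
    have hk0 : k = 0 := by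
      by_contra h
      exact Nat.not_even_iff_odd.2 h2 (Nat.even_pow.2 ⟨even_two, h⟩)
    have h3 : (p.1 : G) = 1 := orderOf_eq_one_iff.1 (by rw [hk, hk0, pow_zero])
    refine Prod.ext (Subtype.ext h3) (Subtype.ext ?_)
    rw [h3, eq_comm, inv_eq_one] at hp'
    exact hp'
  haveI : Fintype (centP D) := Fintype.ofFinite _
  haveI : Fintype (Y) := Fintype.ofFinite _
  choose K hK using fun μ : Y →* ℂˣ => exists_mult_hom f hfi χ (μ.comp (MonoidHom.snd _ _))
  have hcomm : ∀ a b : Y, a * b = b * a := fun a b => by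
    refine Subtype.ext ?_
    have h := hσY _ (mul_mem a.2 b.2)
    rw [show σ * ((a : G) * b) * σ⁻¹ = σ * a * σ⁻¹ * (σ * b * σ⁻¹) by group, hσY a a.2, hσY b b.2,
      ← mul_inv_rev, inv_inj] at h
    exact h.symm
  have hd0 : (Fintype.card (Y) : ℂ) ≠ 0 := Nat.cast_ne_zero.2 Fintype.card_ne_zero
  -- the multiplicities on `fixT`
  let k : (Y →* ℂˣ) → ℤ := fun μ =>
    (2 ^ (n - 1) : ℕ) * (K μ : ℤ) - if μ = 1 then (((2 ^ (n - 1) : ℕ) : ℤ) - 1) * c else 0
  have hk : ∀ μ : Y →* ℂˣ, (Fintype.card (Y) : ℂ) * (k μ : ℂ) =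
      ∑ y : Y, (χ : G → ℂ) (y : G) * conj (μ y : ℂ) := by
    intro μ
    have h := hK μ
    rw [Nat.card_prod, card_centP D hN, Fintype.sum_prod_type,
      ← Finset.add_sum_erase univ _ (mem_univ (1 : centP D))] at h
    have h2 : ∀ s ∈ univ.erase (1 : centP D), (∑ y : Y, (χ : G → ℂ) (f (s, y)) *
        conj ((μ.comp (MonoidHom.snd _ _)) (s, y) : ℂ)) = (c : ℂ) * ∑ y : Y, conj (μ y : ℂ) := by
      intro s hs
      rw [mul_sum]
      refine sum_congr rfl fun y _ => ?_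
      rw [show f (s, y) = (s : G) * y from rfl,
        hvals s s.2 (fun e => (mem_erase.1 hs).1 (Subtype.ext e)) y y.2]
      rfl
    have hconj' : ∑ y : Y, conj (μ y : ℂ) =
        if μ = 1 then (Fintype.card (Y) : ℂ) else 0 := by
      rw [← map_sum, sum_char]
      split_ifs <;> simp
    have h1' : ∀ y : Y, (χ : G → ℂ) (f (1, y)) *
        conj ((μ.comp (MonoidHom.snd _ _)) ((1 : centP D), y) : ℂ) =
        (χ : G → ℂ) (y : G) * conj (μ y : ℂ) := fun y => by
      rw [show f (1, y) = (y : G) from one_mul _]; rfl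
    rw [sum_congr rfl h2, sum_congr rfl fun y _ => h1' y, sum_const,
      card_erase_of_mem (mem_univ _), card_univ, ← Nat.card_eq_fintype_card (α := centP D),
      card_centP D hN, nsmul_eq_mul, hconj', Nat.cast_sub Nat.one_le_two_pow,
      Nat.card_eq_fintype_card] at h
    simp only [k]
    push_cast at h ⊢
    split_ifs at h ⊢ <;> push_cast at h ⊢ <;> linear_combination h
  have hk0 : ∀ μ, 0 ≤ k μ := by
    intro μ
    obtain ⟨j, hj⟩ := CfsgLib.FrobeniusSylow.exists_restrict_mult (Y) χ μ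
    rw [Nat.card_eq_fintype_card, ← hk μ] at hj
    have := mul_left_cancel₀ hd0 hj
    have h5 : (j : ℤ) = k μ := by exact_mod_cast this
    omega
  have hinvsum : ∀ w : Y, (χ : G → ℂ) (w : G) = ∑ μ : Y →* ℂˣ, (k μ : ℂ) * (μ w : ℂ) := by
    intro w
    refine mul_left_cancel₀ hd0 ?_
    rw [mul_sum]
    simp only [← mul_assoc, hk, sum_mul]
    rw [sum_comm, sum_eq_single w]
    · simp only [mul_assoc, conj_char, MonoidHom.inv_apply, ← Units.val_mul, inv_mul_cancel,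
        Units.val_one, mul_one, sum_const, card_univ, card_dual hcomm, nsmul_eq_mul]
    · intro y _ hy
      simp only [mul_assoc, conj_char, MonoidHom.inv_apply, ← map_inv, ← Units.val_mul, ← map_mul,
        ← mul_sum, sum_dual hcomm, if_neg fun h : y⁻¹ * w = 1 => hy (inv_mul_eq_one.1 h), mul_zero]
    · simp
  have hx : (charDegree (χ : G → ℂ) : ℤ) = ∑ μ, k μ := by
    have h := hinvsum 1
    simp only [OneMemClass.coe_one, (irr_one χ).1, map_one, Units.val_one, mul_one] at h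
    exact_mod_cast h
  have hsymm : ∀ μ, k μ⁻¹ = k μ := by
    intro μ
    have h := hk μ⁻¹
    rw [← Equiv.sum_comp (Equiv.inv (Y))] at h
    have e : ∀ y : Y, (χ : G → ℂ) ((Equiv.inv (Y) y : Y) : G) *
        conj (μ⁻¹ (Equiv.inv (Y) y) : ℂ) = (χ : G → ℂ) (y : G) * conj (μ y : ℂ) := fun y => by
      rw [Equiv.inv_apply, MonoidHom.inv_apply, map_inv, inv_inv, Subgroup.coe_inv,
        ← hσY y y.2]
      rw [← hcl (isConj_iff.2 ⟨σ, rfl⟩)]
    rw [sum_congr rfl fun y _ => e y, ← hk μ] at h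
    exact_mod_cast mul_left_cancel₀ hd0 h
  -- faithfulness
  obtain ⟨μ, hμ1, hμk⟩ : ∃ μ : Y →* ℂˣ, μ ≠ 1 ∧ k μ ≠ 0 := by
    by_contra hne
    simp only [not_exists, not_and, not_not] at hne
    obtain ⟨y, hy⟩ := Y.ne_bot_iff_exists_ne_one.1 hY1
    have hval1 : ∀ w : Y, (χ : G → ℂ) (w : G) = k 1 := fun w => by
      rw [hinvsum w, sum_eq_single (1 : Y →* ℂˣ) (fun ν _ hν => by rw [hne ν hν]; simp) (by simp)]
      simp
    have hy' : (y : G) ≠ 1 := fun e => hy (Subtype.ext e)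
    have := CfsgLib.PairSimple.eq_oneIrr_of_apply χ hy'
      ((hval1 y).trans (hval1 1).symm)
    exact h1 (by rw [this]; exact funext oneIrr_apply)
  have hμi : μ⁻¹ ≠ μ := by
    intro h
    apply hμ1
    refine MonoidHom.ext fun y => ?_
    have h2 : μ y * μ y = 1 := by
      have := DFunLike.congr_fun h y
      rw [MonoidHom.inv_apply] at this
      rw [← inv_mul_cancel (μ y), this]
    have ho : Odd (orderOf y) := by
      rw [← Subgroup.orderOf_coe]; exact ((mem_oddU_iff D).1 (hY y.2).1).2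
    have h3 : orderOf (μ y) ∣ 2 := orderOf_dvd_of_pow_eq_one (by rw [sq, h2])
    have h4 : orderOf (μ y) ∣ orderOf y := orderOf_map_dvd μ y
    exact orderOf_eq_one_iff.1 (Nat.eq_one_of_dvd_coprimes (Nat.coprime_two_left.2 ho) h3 h4)
  have hμi1 : μ⁻¹ ≠ 1 := fun h => hμ1 (MonoidHom.ext fun y => by
    simpa using DFunLike.congr_fun h y)
  have hdvd : ∀ ν : Y →* ℂˣ, ν ≠ 1 → ((2 ^ (n - 1) : ℕ) : ℤ) ∣ k ν := fun ν hν => by
    simp only [k, if_neg hν, sub_zero]; exact dvd_mul_right _ _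
  have hk1 : ((2 ^ (n - 1) : ℕ) : ℤ) ∣ k 1 - c := by
    refine ⟨(K 1 : ℤ) - c, ?_⟩
    simp only [k]
    rw [if_pos trivial]
    ring
  have hge : ((2 ^ (n - 1) : ℕ) : ℤ) ≤ k μ :=
    Int.le_of_dvd (lt_of_le_of_ne (hk0 μ) (Ne.symm hμk)) (hdvd μ hμ1)
  have hk1pos : 1 ≤ k 1 := by
    by_contra h
    have h0 : k 1 = 0 := by have := hk0 1; omega
    rw [h0] at hk1
    have h6 : ((2 ^ (n - 1) : ℕ) : ℤ) ∣ (1 : ℤ) := by rcases hc with rfl | rfl <;> simpa using hk1
    have h7 := Int.le_of_dvd one_pos h6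
    omega
  constructor
  · have h3 : ∑ ν ∈ ({1, μ, μ⁻¹} : Finset (Y →* ℂˣ)), k ν ≤ ∑ ν, k ν :=
      sum_le_sum_of_subset_of_nonneg (subset_univ _) fun ν _ _ => hk0 ν
    rw [sum_insert (by simp [Ne.symm hμ1, Ne.symm hμi1]), sum_insert (by simp [hμi.symm]),
      sum_singleton, hsymm μ, ← hx] at h3
    have h8 : 2 ^ n = 2 * 2 ^ (n - 1) := by
      rw [← pow_succ', show n - 1 + 1 = n by have := D.hn; omega]
    omega
  · rw [hx, ← Finset.add_sum_erase univ k (mem_univ (1 : Y →* ℂˣ)), add_sub_right_comm]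
    exact dvd_add hk1 (Finset.dvd_sum fun ν hν => hdvd ν (mem_erase.1 hν).1)

end CfsgLib.GW
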