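import Cfsg.Agent.GW.A7End.Kill
import Cfsg.Agent.Blocks.Congr
import Cfsg.Agent.S0984

/-!
# The endgame: the alternating group of degree seven

A simple group with a dihedral Sylow 2-subgroup `⟨σ, τ⟩` of order at least eight such that, in the
odd part of the centraliser of the central involution, `σ * τ` has no fixed point but the identity
while `τ` has one, is isomorphic to the alternating group of degree seven.
-/

set_option autoImplicit false
set_option linter.style.haveILetI false
set_option linter.unusedSectionVars false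

namespace CfsgLib.GW

open Cfsg CfsgLib.Block CfsgLib.SectionCount CfsgLib.DihPrincipal

universe u

variable {G : Type u} [Group G] [Fintype G] [Fact (Nat.Prime 2)] {P : Sylow 2 G} {σ τ : G} {n : ℕ}

/-- The order of the group in the surviving case. -/
theorem a7_order [IsSimpleGroup G] (D : Data P σ τ n)
    (hst : oddU D ⊓ Subgroup.centralizer ({σ * τ} : Set G) = ⊥) (hd : fixT D ≠ ⊥)
    (hconj : IsConj (σ ^ 2 ^ (n - 2)) τ ∧ IsConj (σ ^ 2 ^ (n - 2)) (σ * τ)) :
    Nat.card G = 2520 := by
  obtain ⟨M, hM⟩ := exists_isPModular Nat.prime_two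
  haveI : M.IsPrime := hM.2.1.isPrime
  obtain ⟨a, φ, b, c, Sh⟩ := shape D (nested_of_bot D hst hd) hM hconj
  exact (order_or D hst hd hM Sh hconj).elim id fun ⟨d, v, hB⟩ =>
    (false_of_big D hst hd hM Sh hB).elim

/-- **The `A₇` endgame.** -/
theorem a7_end [IsSimpleGroup G] (D : Data P σ τ n)
    (hst : oddU D ⊓ Subgroup.centralizer ({σ * τ} : Set G) = ⊥) (hd : fixT D ≠ ⊥)
    (hconj : IsConj (σ ^ 2 ^ (n - 2)) τ ∧ IsConj (σ ^ 2 ^ (n - 2)) (σ * τ)) :
    Nonempty (G ≃* alternatingGroup (Fin 7)) :=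
  Cfsg.Agent.S0984.result (a7_order D hst hd hconj)

/-- In the nested configuration the smaller fixed point group is trivial. -/
theorem fixST_eq_bot [IsSimpleGroup G] (D : Data P σ τ n) (hN : Nested D)
    (hconj : IsConj (σ ^ 2 ^ (n - 2)) τ ∧ IsConj (σ ^ 2 ^ (n - 2)) (σ * τ)) : fixST D = ⊥ := by
  obtain ⟨M, hM⟩ := exists_isPModular Nat.prime_two
  haveI : M.IsPrime := hM.2.1.isPrime
  obtain ⟨a, φ, b, c, Sh⟩ := shape D hN hM hconj
  have h4 : Nat.card (centP D) = 4 := by rw [card_centP D hN, Sh.n_eq]; rfl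
  have h := four_card D Sh hM hconj (H := centP D) inf_le_left h4 (X := fixT D)
    (fun x hx => ((mem_oddU_iff D).1 hx.1).2)
    (fun y hy x hx => (Subgroup.mem_centralizer_iff.1 hy.2 x hx).symm)
  rw [Sh.d_eq] at h
  exact Subgroup.eq_bot_of_card_eq _
    (Nat.dvd_one.1 ((Nat.mul_dvd_mul_iff_left (by norm_num : 0 < 3)).1 (by simpa using h)))

/-- **The nested configuration is the alternating group of degree seven.** -/
theorem a7_nested [IsSimpleGroup G] (D : Data P σ τ n) (hN : Nested D)
    (hconj : IsConj (σ ^ 2 ^ (n - 2)) τ ∧ IsConj (σ ^ 2 ^ (n - 2)) (σ * τ)) :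
    Nonempty (G ≃* alternatingGroup (Fin 7)) := by
  have h := fixST_eq_bot D hN hconj
  exact a7_end D h (fun e => hN.ne (by rw [h, e])) hconj

end CfsgLib.GW
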