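import Cfsg.Agent.BlocksB.DihedralPrincipal.Order

/-!
# The odd part of the centraliser of the central involution and the two reflection classes
-/

set_option autoImplicit false
set_option linter.style.haveILetI false
set_option linter.unusedSectionVars false

namespace CfsgLib.GW

open Cfsg Finset CfsgLib.Block CfsgLib.Block.Chr CfsgLib.SectionCount CfsgLib.DihPrincipal
open scoped Classical

universe u

variable {G : Type u} [Group G] [Fintype G] [Fact (Nat.Prime 2)] {P : Sylow 2 G} {σ τ : G} {n : ℕ}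

theorem mem_core_of_odd {x : G} {a : ℕ} (ha : (core 2 x).index = 2 ^ a) {v : G}
    (hv : v ∈ Subgroup.centralizer ({x} : Set G)) (ho : Odd (orderOf v)) :
    (⟨v, hv⟩ : Subgroup.centralizer ({x} : Set G)) ∈ core 2 x := by
  haveI := CfsgLib.Solvable.pPrimeCore_normal (G := Subgroup.centralizer ({x} : Set G)) 2
  rw [← QuotientGroup.eq_one_iff, ← orderOf_eq_one_iff]
  have h1 : orderOf ((⟨v, hv⟩ : Subgroup.centralizer ({x} : Set G)) :
      Subgroup.centralizer ({x} : Set G) ⧸ core 2 x) ∣ 2 ^ a := by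
    rw [← ha, Subgroup.index]; exact orderOf_dvd_natCard _
  have h2 : orderOf ((⟨v, hv⟩ : Subgroup.centralizer ({x} : Set G)) :
      Subgroup.centralizer ({x} : Set G) ⧸ core 2 x) ∣ orderOf v := by
    rw [← Subgroup.orderOf_mk _ hv]
    exact orderOf_map_dvd (QuotientGroup.mk' (core 2 x)) _
  exact Nat.eq_one_of_dvd_coprimes ((Nat.coprime_two_left.2 ho).pow_left a) h1 h2

variable (D : Data P σ τ n)
include D

theorem z_conj_apply {M : Ideal AlgInt} [M.IsPrime] (hM : IsPModular 2 M) {χ : IrrCharacter G}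
    (hχ : χ ∈ principalBlock M G) {s : G} (hs : IsConj (σ ^ 2 ^ (n - 2)) s) {y : G}
    (hy : Commute s y) (ho : Odd (orderOf y)) :
    (χ : G → ℂ) (s * y) = (χ : G → ℂ) (σ ^ 2 ^ (n - 2)) := by
  obtain ⟨g, hg⟩ := isConj_iff.1 hs
  have hyC : g⁻¹ * y * g ∈ Subgroup.centralizer ({σ ^ 2 ^ (n - 2)} : Set G) := by
    rw [Subgroup.mem_centralizer_singleton_iff]
    have h := hy.eq
    rw [← hg] at h
    calc g⁻¹ * y * g * σ ^ 2 ^ (n - 2) = g⁻¹ * (y * (g * σ ^ 2 ^ (n - 2) * g⁻¹)) * g := by group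
      _ = σ ^ 2 ^ (n - 2) * (g⁻¹ * y * g) := by rw [← h]; group
  have ho' : Odd (orderOf (g⁻¹ * y * g)) := by
    have h := CfsgLib.Invol.orderOf_conj_eq g⁻¹ y
    rw [inv_inv] at h
    rwa [h]
  have hmem : g⁻¹ * y * g ∈ centralizerPPrimeCore 2 (σ ^ 2 ^ (n - 2)) :=
    Subgroup.mem_map.2 ⟨⟨_, hyC⟩, mem_core_of_odd D.index_core_z hyC ho', rfl⟩
  have h1 := principal_apply_mul_core hM (k := 1) (by rw [D.orderOf_z, pow_one]) hmem hχ
  rw [← h1]
  refine (CfsgLib.Char.IsClassFunction.apply_eq_of_isConj (isClassFunction_irr χ)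
    (isConj_iff.2 ⟨g, ?_⟩)).symm
  rw [← hg]; group

theorem rot_apply {M : Ideal AlgInt} [M.IsPrime] (hM : IsPModular 2 M) {χ : IrrCharacter G}
    (hχ : χ ∈ principalBlock M G) {s : G} (hs : s ∈ Subgroup.zpowers σ) (hs1 : s ≠ 1) {y : G}
    (hy : Commute s y) (ho : Odd (orderOf y)) : (χ : G → ℂ) (s * y) = (χ : G → ℂ) s := by
  have hyC : y ∈ Subgroup.centralizer ({s} : Set G) :=
    Subgroup.mem_centralizer_singleton_iff.2 hy.symm.eq
  obtain ⟨a, ha⟩ : ∃ a, (core 2 s).index = 2 ^ a := by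
    by_cases h : s = σ ^ 2 ^ (n - 2)
    · exact ⟨n, by rw [h]; exact D.index_core_z⟩
    · exact ⟨_, D.index_core_rot hs hs1 h⟩
  obtain ⟨k, hk⟩ := D.exists_orderOf hs
  exact principal_apply_mul_core hM hk
    (Subgroup.mem_map.2 ⟨⟨_, hyC⟩, mem_core_of_odd ha hyC ho, rfl⟩) hχ

/-- The odd part of the centraliser of the central involution. -/
noncomputable def oddU (_D : Data P σ τ n) : Subgroup G :=
  (core 2 (σ ^ 2 ^ (n - 2))).map (Subgroup.centralizer ({σ ^ 2 ^ (n - 2)} : Set G)).subtype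

theorem oddU_le : oddU D ≤ Subgroup.centralizer ({σ ^ 2 ^ (n - 2)} : Set G) :=
  Subgroup.map_subtype_le _

theorem card_oddU_mul :
    Nat.card (oddU D) * 2 ^ n = Nat.card (Subgroup.centralizer ({σ ^ 2 ^ (n - 2)} : Set G)) := by
  rw [oddU, Subgroup.card_subtype, ← D.index_core_z, Subgroup.card_mul_index]

theorem odd_card_oddU : Odd (Nat.card (oddU D)) := by
  rw [oddU, Subgroup.card_subtype]
  exact Nat.coprime_two_left.1
    (CfsgLib.Solvable.coprime_card_pPrimeCore (G := Subgroup.centralizer ({σ ^ 2 ^ (n - 2)} : Set G)) 2).symm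

theorem mem_oddU_iff {y : G} :
    y ∈ oddU D ↔ y ∈ Subgroup.centralizer ({σ ^ 2 ^ (n - 2)} : Set G) ∧ Odd (orderOf y) := by
  refine ⟨fun hy => ⟨oddU_le D hy, ?_⟩, fun ⟨hC, ho⟩ => ?_⟩
  · exact Odd.of_dvd_nat (odd_card_oddU D) (Subgroup.orderOf_dvd_natCard _ hy)
  · exact Subgroup.mem_map.2 ⟨⟨_, hC⟩, mem_core_of_odd D.index_core_z hC ho, rfl⟩

theorem sigma_mul_tau_sq : σ * τ * (σ * τ) = 1 := by
  obtain ⟨-, h2, -, -⟩ := (mem_filter.1 (D.rot_refl_mem (Subgroup.mem_zpowers σ))).2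
  exact h2

theorem conj_refl_zpow (j : ℤ) {s : G} (hs : s ∈ (P : Subgroup G)) :
    ∃ k : ℤ, s * (σ ^ j * τ) * s⁻¹ = σ ^ (2 * k + j) * τ := by
  have hτi := CfsgLib.Invol.inv_eq_self D.ordτ
  have key : ∀ i m : ℤ, σ ^ i * (σ ^ m * τ) * (σ ^ i)⁻¹ = σ ^ (2 * i + m) * τ := fun i m => by
    have h := D.conj_τ (zpow_mem (Subgroup.mem_zpowers σ) (-i))
    have h2 : τ * σ ^ (-i) = σ ^ i * τ := by
      calc τ * σ ^ (-i) = τ * σ ^ (-i) * τ⁻¹ * τ := by group
        _ = σ ^ i * τ := by rw [h, ← zpow_neg, neg_neg]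
    rw [← zpow_neg, mul_assoc, mul_assoc, h2, ← mul_assoc, ← mul_assoc, ← zpow_add, ← zpow_add]
    congr 2
    ring
  rcases D.cases s hs with h | h
  · obtain ⟨i, rfl⟩ := Subgroup.mem_zpowers_iff.1 h
    exact ⟨i, key i j⟩
  · obtain ⟨i, hi⟩ := Subgroup.mem_zpowers_iff.1 h
    have hs' : s = σ ^ i * τ := by
      rw [hi, mul_assoc, CfsgLib.Invol.mul_self_eq_one D.ordτ, mul_one]
    refine ⟨i - j, ?_⟩
    rw [hs', show σ ^ i * τ * (σ ^ j * τ) * (σ ^ i * τ)⁻¹ =
      σ ^ i * ((τ * σ ^ j * τ⁻¹) * τ) * (σ ^ i)⁻¹ by group,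
      D.conj_τ (zpow_mem (Subgroup.mem_zpowers σ) j), ← zpow_neg, key]
    congr 2
    ring

theorem two_dvd_of_zpow_eq {i j : ℤ} (h : σ ^ i = σ ^ j) : (2 : ℤ) ∣ i - j := by
  have h1 : σ ^ (i - j) = 1 := by rw [zpow_sub, h, mul_inv_cancel]
  have h2 := orderOf_dvd_iff_zpow_eq_one.2 h1
  rw [D.q_eq, Nat.cast_mul] at h2
  exact (dvd_mul_right _ _).trans h2

theorem zpow_refl_conj {i : ℤ}
    (hconj : IsConj (σ ^ 2 ^ (n - 2)) τ ∧ IsConj (σ ^ 2 ^ (n - 2)) (σ * τ)) :
    IsConj (σ ^ 2 ^ (n - 2)) (σ ^ i * τ) := by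
  obtain ⟨e, he⟩ : ∃ e : ℤ, i = 2 * e ∨ i = 2 * e + 1 := ⟨i / 2, by omega⟩
  rcases he with rfl | rfl
  · refine hconj.1.trans (isConj_iff.2 ⟨σ ^ e, ?_⟩)
    obtain ⟨k, hk⟩ := conj_refl_zpow D 0 (zpow_mem D.σ_mem e)
    have hτ' := D.conj_τ (zpow_mem (Subgroup.mem_zpowers σ) (-e))
    rw [← zpow_neg, neg_neg] at hτ'
    calc σ ^ e * τ * (σ ^ e)⁻¹ = σ ^ e * (τ * σ ^ (-e) * τ⁻¹) * τ := by group
      _ = σ ^ (2 * e) * τ := by rw [hτ', ← zpow_add, two_mul]
  · refine hconj.2.trans (isConj_iff.2 ⟨σ ^ e, ?_⟩)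
    have hτ' := D.conj_τ (zpow_mem (Subgroup.mem_zpowers σ) (-e))
    rw [← zpow_neg, neg_neg] at hτ'
    calc σ ^ e * (σ * τ) * (σ ^ e)⁻¹ = σ ^ e * σ * (τ * σ ^ (-e) * τ⁻¹) * τ := by group
      _ = σ ^ (2 * e + 1) * τ := by
        rw [hτ', ← zpow_add_one, ← zpow_add]
        congr 2
        ring

/-- The elements of the Sylow subgroup commuting with a reflection. -/
theorem card_centralizer_pair_eq {r : G} (hr : r ∈ (P : Subgroup G))
    (hrσ : r ∉ Subgroup.zpowers σ) :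
    Nat.card (Subgroup.centralizer ({σ ^ 2 ^ (n - 2), r} : Set G)) =
      4 * Nat.card ↥(oddU D ⊓ Subgroup.centralizer ({r} : Set G)) := by
  set z := σ ^ 2 ^ (n - 2) with hz
  set H := Subgroup.centralizer ({z, r} : Set G) with hH
  have hmemH : ∀ {g : G}, g ∈ H ↔ g ∈ Subgroup.centralizer ({z} : Set G) ∧
      g ∈ Subgroup.centralizer ({r} : Set G) := fun {g} => by
    simp [H, Subgroup.mem_centralizer_iff]
  have hHC : H ≤ Subgroup.centralizer ({z} : Set G) := fun g hg => (hmemH.1 hg).1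
  set f := D.ret.comp (Subgroup.inclusion hHC) with hf
  obtain ⟨i, hi⟩ : ∃ i : ℤ, r = σ ^ i * τ := by
    obtain ⟨i, hi⟩ := Subgroup.mem_zpowers_iff.1 ((D.cases r hr).resolve_left hrσ)
    exact ⟨i, by rw [hi, mul_assoc, CfsgLib.Invol.mul_self_eq_one D.ordτ, mul_one]⟩
  have hrr : r * r = 1 := by
    rw [hi]
    obtain ⟨-, h2, -, -⟩ := (mem_filter.1 (D.rot_refl_mem (zpow_mem (Subgroup.mem_zpowers σ) i))).2
    exact h2
  have hr1 : r ≠ 1 := fun h => hrσ (h ▸ one_mem _)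
  have hrz : r ≠ z := fun h => hrσ (h ▸ Data.z_mem_zpowers)
  have hzP : z ∈ (P : Subgroup G) := D.le_sylow Data.z_mem_zpowers
  have hcz : Commute r z := D.commute_z hr
  have hrange : (f.range.map (P : Subgroup G).subtype : Set G) = {1, z, r, r * z} := by
    ext s
    constructor
    · rintro ⟨p, ⟨g, rfl⟩, rfl⟩
      obtain ⟨hgz, hgr⟩ := hmemH.1 g.2
      have hcomm : (f g : G) * r = r * (f g : G) := by
        have h1 : g * ⟨r, hmemH.2 ⟨D.le_centralizer hr, Subgroup.mem_centralizer_singleton_iff.2 rfl⟩⟩ =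
            ⟨r, hmemH.2 ⟨D.le_centralizer hr, Subgroup.mem_centralizer_singleton_iff.2 rfl⟩⟩ * g :=
          Subtype.ext (Subgroup.mem_centralizer_singleton_iff.1 hgr)
        have h2 := congrArg Subtype.val (congrArg f h1)
        rw [map_mul, map_mul] at h2
        have h3 : f ⟨r, hmemH.2 ⟨D.le_centralizer hr,
            Subgroup.mem_centralizer_singleton_iff.2 rfl⟩⟩ = ⟨r, hr⟩ := D.ret_apply ⟨r, hr⟩
        rw [h3] at h2
        exact h2
      simp only [Set.mem_insert_iff, Set.mem_singleton_iff, Subgroup.coe_subtype]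
      have hrot : ∀ w ∈ Subgroup.zpowers σ, w * r = r * w → w = 1 ∨ w = z := by
        intro w hw hc
        refine D.eq_z hw ?_
        obtain ⟨j, rfl⟩ := Subgroup.mem_zpowers_iff.1 hw
        rw [hi] at hc
        have h4 : σ ^ i * τ * σ ^ j = σ ^ i * (τ * σ ^ j * τ⁻¹) * τ := by group
        rw [← mul_assoc, ← zpow_add, h4, D.conj_τ (zpow_mem (Subgroup.mem_zpowers σ) j),
          ← zpow_neg, ← zpow_add] at hc
        have h5 := mul_right_cancel hc
        rw [← zpow_add, ← zpow_zero σ, show j + j = (j + i) - (i + -j) by ring, zpow_sub, h5,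
          mul_inv_cancel, zpow_zero]
      rcases D.cases _ (f g).2 with h | h
      · rcases hrot _ h hcomm with e | e
        · exact Or.inl e
        · exact Or.inr (Or.inl e)
      · have h6 : r * (f g : G) ∈ Subgroup.zpowers σ := by
          obtain ⟨j, hj⟩ := Subgroup.mem_zpowers_iff.1 h
          rw [hi, show (f g : G) = σ ^ j * τ by
              rw [hj, mul_assoc, CfsgLib.Invol.mul_self_eq_one D.ordτ, mul_one],
            show σ ^ i * τ * (σ ^ j * τ) = σ ^ i * (τ * σ ^ j * τ⁻¹) * (τ * τ) by group,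
            D.conj_τ (zpow_mem (Subgroup.mem_zpowers σ) j),
            CfsgLib.Invol.mul_self_eq_one D.ordτ, mul_one]
          exact mul_mem (zpow_mem (Subgroup.mem_zpowers σ) i)
            (inv_mem (zpow_mem (Subgroup.mem_zpowers σ) j))
        have h7 : r * (f g : G) * r = r * (r * (f g : G)) := by rw [mul_assoc, hcomm]
        have h8 : (f g : G) = r * (r * (f g : G)) := by rw [← mul_assoc, hrr, one_mul]
        rcases hrot _ h6 h7 with e | e
        · right; right; left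
          rw [h8, e, mul_one]
        · right; right; right
          rw [h8, e]
    · intro hs
      simp only [Set.mem_insert_iff, Set.mem_singleton_iff] at hs
      have key : ∀ s ∈ (P : Subgroup G), Commute s r →
          s ∈ f.range.map (P : Subgroup G).subtype := fun s hs hc =>
        ⟨⟨s, hs⟩, ⟨⟨s, hmemH.2 ⟨D.le_centralizer hs,
          Subgroup.mem_centralizer_singleton_iff.2 hc.eq⟩⟩, D.ret_apply ⟨s, hs⟩⟩, rfl⟩
      rcases hs with rfl | rfl | rfl | rfl
      · exact one_mem _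
      · exact key _ hzP hcz.symm
      · exact key _ hr (Commute.refl _)
      · exact key _ (mul_mem hr hzP) ((Commute.refl r).mul_left hcz.symm)
  have hcard : Nat.card f.range = 4 := by
    rw [← Subgroup.card_subtype (P : Subgroup G) f.range,
      show Nat.card ↥(f.range.map (P : Subgroup G).subtype) =
        (f.range.map (P : Subgroup G).subtype : Set G).ncard from rfl, hrange]
    have hrz1 : r * z ≠ 1 := fun h => hrz ((mul_eq_one_iff_eq_inv.1 h).trans D.z_inv)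
    have hz1 : z ≠ 1 := D.z_ne_one
    have hA : (1 : G) ∉ ({z, r, r * z} : Set G) := by
      simp [Ne.symm hz1, Ne.symm hr1, Ne.symm hrz1]
    have hB : z ∉ ({r, r * z} : Set G) := by
      simp [Ne.symm hrz, hr1]
    rw [Set.ncard_insert_of_notMem hA, Set.ncard_insert_of_notMem hB, Set.ncard_pair]
    simpa using hz1
  have hker : Nat.card f.ker = Nat.card ↥(oddU D ⊓ Subgroup.centralizer ({r} : Set G)) := by
    refine Nat.card_congr
      { toFun := fun g => ⟨g.1.1, Subgroup.mem_inf.2 ⟨?_, (hmemH.1 g.1.2).2⟩⟩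
        invFun := fun g => ⟨⟨g.1, hmemH.2 ⟨oddU_le D (Subgroup.mem_inf.1 g.2).1,
          (Subgroup.mem_inf.1 g.2).2⟩⟩, ?_⟩
        left_inv := fun g => rfl
        right_inv := fun g => rfl }
    · refine Subgroup.mem_map.2 ⟨⟨g.1.1, hHC g.1.2⟩, ?_, rfl⟩
      rw [← D.ker_ret]; exact g.2
    · obtain ⟨v, hv, hve⟩ := Subgroup.mem_map.1 (Subgroup.mem_inf.1 g.2).1
      show D.ret ⟨g.1, _⟩ = 1
      have : (⟨g.1, oddU_le D (Subgroup.mem_inf.1 g.2).1⟩ :
          Subgroup.centralizer ({z} : Set G)) = v := Subtype.ext hve.symm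
      rw [this]
      rwa [← MonoidHom.mem_ker, D.ker_ret]
  rw [← f.ker.card_mul_index, Subgroup.index_ker, hcard, hker, mul_comm]

end CfsgLib.GW
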