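import Cfsg.Agent.GW.A7End.Odd

/-!
# The two pair-count equations of the principal 2-block

Counting pairs of involutions whose product lies in the section of the central involution and in the
section of a rotation of maximal order gives two equations; the second one determines the degrees of
the two characters which change sign on odd rotations.
-/

set_option autoImplicit false
set_option linter.style.haveILetI false
set_option linter.unusedSectionVars false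

namespace CfsgLib.GW

open Cfsg Finset CfsgLib.Block CfsgLib.Block.Chr CfsgLib.SectionCount CfsgLib.DihPrincipal
open scoped ComplexConjugate
open scoped Classical

universe u

variable {G : Type u} [Group G] [Fintype G] [Fact (Nat.Prime 2)] {P : Sylow 2 G} {σ τ : G} {n : ℕ}
  (D : Data P σ τ n)
include D

/-- The reflections projecting to the class of `τ` (`e = 0`) or of `σ * τ` (`e = 1`). -/
noncomputable def reflClass (D : Data P σ τ n) (e : ℤ) : Finset G :=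
  D.refl.filter fun u => ∃ k : ℤ, D.proj u = σ ^ (2 * k + e) * τ

theorem reflClass_eq (e : ℤ) (he : e = 0 ∨ e = 1) :
    reflClass D e = D.refl.filter fun u =>
      ∃ c ∈ Subgroup.centralizer ({σ ^ 2 ^ (n - 2)} : Set G), c * (σ ^ e * τ) * c⁻¹ = u := by
  ext u
  simp only [reflClass, mem_filter, and_congr_right_iff]
  intro hu
  have hP : ∀ j : ℤ, σ ^ j * τ ∈ (P : Subgroup G) := fun j =>
    mul_mem (zpow_mem D.σ_mem j) D.τ_mem
  constructor
  · rintro ⟨k, hk⟩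
    obtain ⟨c, hc, h⟩ := D.refl_classes hu
    refine ⟨c, hc, ?_⟩
    have hpr : ∀ j : ℤ, c * (σ ^ j * τ) * c⁻¹ = u → ∃ l : ℤ, D.proj u = σ ^ (2 * l + j) * τ := by
      intro j hj
      rw [← hj, D.proj_conj hc (D.le_centralizer (hP j)), D.proj_of_mem (hP j)]
      exact conj_refl_zpow D j (D.proj_mem c)
    rcases h with h | h
    · obtain ⟨l, hl⟩ := hpr 0 (by rw [zpow_zero, one_mul]; exact h)
      have h2 := two_dvd_of_zpow_eq D (mul_right_cancel (hk.symm.trans hl))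
      rcases he with rfl | rfl
      · rw [zpow_zero, one_mul]; exact h
      · omega
    · obtain ⟨l, hl⟩ := hpr 1 (by rw [zpow_one]; exact h)
      have h2 := two_dvd_of_zpow_eq D (mul_right_cancel (hk.symm.trans hl))
      rcases he with rfl | rfl
      · omega
      · rw [zpow_one]; exact h
  · rintro ⟨c, hc, rfl⟩
    rw [D.proj_conj hc (D.le_centralizer (hP e)), D.proj_of_mem (hP e)]
    exact conj_refl_zpow D e (D.proj_mem c)

theorem refl_eq_union : D.refl = reflClass D 0 ∪ reflClass D 1 := by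
  ext u
  simp only [mem_union, reflClass, mem_filter]
  refine ⟨fun hu => ?_, fun h => h.elim And.left And.left⟩
  obtain ⟨j, hj⟩ := Subgroup.mem_zpowers_iff.1
    ((D.cases _ (D.proj_mem u)).resolve_left (D.proj_refl hu))
  have hp : D.proj u = σ ^ j * τ := by
    rw [hj, mul_assoc, CfsgLib.Invol.mul_self_eq_one D.ordτ, mul_one]
  rcases Int.even_or_odd' j with ⟨k, rfl | rfl⟩
  · exact Or.inl ⟨hu, k, by rw [add_zero]; exact hp⟩
  · exact Or.inr ⟨hu, k, hp⟩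

theorem disjoint_reflClass : Disjoint (reflClass D 0) (reflClass D 1) := by
  rw [reflClass, reflClass, disjoint_filter]
  rintro u - ⟨k, hk⟩ ⟨l, hl⟩
  have := two_dvd_of_zpow_eq D (mul_right_cancel (hk.symm.trans hl))
  omega

/-- The number of reflections above a given reflection of the Sylow subgroup. -/
noncomputable def above (D : Data P σ τ n) (s : G) : ℕ :=
  (D.refl.filter fun w => D.proj w = s).card

theorem above_shift (k e : ℤ) : above D (σ ^ (2 * k + e) * τ) = above D (σ ^ e * τ) := by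
  have hk : σ ^ k ∈ (P : Subgroup G) := zpow_mem D.σ_mem k
  have hconj : σ ^ k * (σ ^ e * τ) * (σ ^ k)⁻¹ = σ ^ (2 * k + e) * τ := by
    have h := D.conj_τ (zpow_mem (Subgroup.mem_zpowers σ) (-k))
    calc σ ^ k * (σ ^ e * τ) * (σ ^ k)⁻¹
        = σ ^ k * σ ^ e * (τ * σ ^ (-k) * τ⁻¹) * τ := by group
      _ = σ ^ (2 * k + e) * τ := by
        rw [h, ← zpow_neg, neg_neg, ← zpow_add, ← zpow_add]
        congr 2
        ring
  refine (card_bij (fun w _ => σ ^ k * w * (σ ^ k)⁻¹) (fun w hw => ?_)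
    (fun a _ b _ h => mul_left_cancel (mul_right_cancel h)) fun w hw => ?_).symm
  · obtain ⟨h1, h2⟩ := mem_filter.1 hw
    refine mem_filter.2 ⟨D.conj_mem_refl h1 (D.le_centralizer hk), ?_⟩
    rw [D.proj_conj (D.le_centralizer hk) (mem_filter.1 h1).2.1, D.proj_of_mem hk, h2, hconj]
  · obtain ⟨h1, h2⟩ := mem_filter.1 hw
    refine ⟨(σ ^ k)⁻¹ * w * σ ^ k, mem_filter.2 ⟨?_, ?_⟩, by group⟩
    · have := D.conj_mem_refl h1 (D.le_centralizer (inv_mem hk))
      rwa [inv_inv] at this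
    · rw [show (σ ^ k)⁻¹ * w * σ ^ k = (σ ^ k)⁻¹ * w * ((σ ^ k)⁻¹)⁻¹ by group,
        D.proj_conj (D.le_centralizer (inv_mem hk)) (mem_filter.1 h1).2.1,
        D.proj_of_mem (inv_mem hk), h2, ← hconj]
      group

theorem card_reflClass (e : ℤ) :
    (reflClass D e).card = 2 ^ (n - 2) * above D (σ ^ e * τ) := by
  have hinj : Set.InjOn (fun l : ℕ => σ ^ (2 * (l : ℤ) + e) * τ) (range (2 ^ (n - 2))) := by
    intro a ha b hb h
    simp only [coe_range, Set.mem_Iio] at ha hb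
    have h1 : σ ^ (2 * (a : ℤ) + e) = σ ^ (2 * (b : ℤ) + e) := mul_right_cancel h
    rw [zpow_add, zpow_add] at h1
    have h2 : σ ^ (2 * a) = σ ^ (2 * b) := by exact_mod_cast mul_right_cancel h1
    have := pow_injOn_Iio_orderOf (by rw [Set.mem_Iio, D.q_eq]; omega)
      (by rw [Set.mem_Iio, D.q_eq]; omega) h2
    omega
  rw [card_eq_sum_card_fiberwise (f := D.proj)
    (t := (range (2 ^ (n - 2))).image fun l : ℕ => σ ^ (2 * (l : ℤ) + e) * τ)]
  · rw [sum_image hinj, sum_congr rfl (g := fun _ => above D (σ ^ e * τ)), sum_const, card_range,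
      smul_eq_mul]
    intro l _
    rw [← above_shift D (l : ℤ) e, above]
    congr 1
    ext w
    simp only [reflClass, mem_filter]
    exact ⟨fun h => ⟨h.1.1, h.2⟩, fun h => ⟨⟨h.1, l, h.2⟩, h.2⟩⟩
  · intro u hu
    obtain ⟨-, k, hk⟩ := mem_filter.1 hu
    refine mem_image.2 ⟨(k % (2 ^ (n - 2) : ℕ)).toNat, mem_range.2 ?_, ?_⟩
    · have h0 : ((2 ^ (n - 2) : ℕ) : ℤ) ≠ 0 := by simp
      have := Int.emod_lt_of_pos k (show (0 : ℤ) < ((2 ^ (n - 2) : ℕ) : ℤ) by positivity)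
      have := Int.emod_nonneg k h0
      omega
    · rw [hk, Int.toNat_of_nonneg (Int.emod_nonneg k (by simp))]
      congr 1
      rw [zpow_eq_zpow_iff_modEq, D.q_eq, Nat.cast_mul]
      push_cast
      exact (Int.ModEq.mul_left' (Int.mod_modEq k _)).add_right e

theorem card_fibre_sigma :
    2 ^ (n - 2) * (D.fibre σ).card = 2 * ((reflClass D 0).card * (reflClass D 1).card) := by
  have h0 : (D.fibre σ).card = ∑ u ∈ D.refl, above D (D.proj u * σ) := by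
    rw [Data.fibre, card_filter, sum_product]
    refine sum_congr rfl fun u hu => ?_
    rw [← card_filter, above]
    congr 1
    refine filter_congr fun w hw => ?_
    obtain ⟨huC, hu2, -, -⟩ := (mem_filter.1 hu).2
    rw [D.proj_mul huC (mem_filter.1 hw).2.1]
    have hpu : D.proj u * D.proj u = 1 := by
      rw [← D.proj_mul huC huC, hu2, D.proj_of_mem (one_mem _)]
    constructor
    · intro h
      calc D.proj w = D.proj u * (D.proj u * D.proj w) := by rw [← mul_assoc, hpu, one_mul]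
        _ = _ := by rw [h]
    · intro h
      rw [h, ← mul_assoc, hpu, one_mul]
  have hside : ∀ e : ℤ, ∀ u ∈ reflClass D e,
      above D (D.proj u * σ) = above D (σ ^ (e - 1) * τ) := by
    intro e u hu
    obtain ⟨-, k, hk⟩ := mem_filter.1 hu
    rw [← above_shift D k (e - 1), hk]
    congr 1
    calc σ ^ (2 * k + e) * τ * σ = σ ^ (2 * k + e) * (τ * σ * τ⁻¹) * τ := by group
      _ = σ ^ (2 * k + (e - 1)) * τ := by
        rw [D.rel, ← zpow_sub_one]
        congr 2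
        ring
  rw [h0, refl_eq_union D, sum_union (disjoint_reflClass D), sum_congr rfl (hside 0),
    sum_congr rfl (hside 1), sum_const, sum_const, smul_eq_mul, smul_eq_mul,
    show (0 : ℤ) - 1 = 2 * (-1) + 1 by norm_num, above_shift D (-1) 1,
    show (1 : ℤ) - 1 = 0 by norm_num, card_reflClass D 0, card_reflClass D 1]
  ring

variable {M : Ideal AlgInt} [M.IsPrime] [Fintype (IrrCharacter G)]

/-- **The two pair-count equations.** -/
theorem pair_equations (hM : IsPModular 2 M)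
    (hconj : IsConj (σ ^ 2 ^ (n - 2)) τ ∧ IsConj (σ ^ 2 ^ (n - 2)) (σ * τ)) {ζ : ℂ}
    (hζ : IsPrimitiveRoot ζ (2 ^ (n - 1))) :
    ∃ (a₁ a₂ a₃ : IrrCharacter G) (χ' : Fin (2 ^ (n - 2) - 1) → IrrCharacter G) (δ₁ δ₂ δ₃ : ℤ),
      ((δ₁ = 1 ∨ δ₁ = -1) ∧ (δ₂ = 1 ∨ δ₂ = -1) ∧ (δ₃ = 1 ∨ δ₃ = -1)) ∧
      ((a₁ : G → ℂ) ≠ (fun _ => 1) ∧ (a₂ : G → ℂ) ≠ (fun _ => 1) ∧ (a₃ : G → ℂ) ≠ (fun _ => 1) ∧
        ∀ j, (χ' j : G → ℂ) ≠ (fun _ => 1)) ∧
      Function.Injective χ' ∧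
      principalBlock M G = {χ : IrrCharacter G |
        (χ : G → ℂ) = (fun _ => 1) ∨ χ = a₁ ∨ χ = a₂ ∨ χ = a₃ ∨ ∃ j, χ = χ' j} ∧
      (∀ l : ℕ, 0 < l → l < 2 ^ (n - 1) → (a₁ : G → ℂ) (σ ^ l) = δ₁ ∧
        (a₂ : G → ℂ) (σ ^ l) = δ₂ * (-1) ^ (l + 1) ∧ (a₃ : G → ℂ) (σ ^ l) = δ₃ * (-1) ^ (l + 1) ∧
        ∀ j : Fin (2 ^ (n - 2) - 1), (χ' j : G → ℂ) (σ ^ l) =
          δ₁ * (ζ ^ (((j : ℕ) + 1) * l) + (ζ ^ (((j : ℕ) + 1) * l))⁻¹)) ∧
      (∀ ρ : G, Odd (orderOf ρ) → ∀ j : Fin (2 ^ (n - 2) - 1),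
        1 + δ₁ * (a₁ : G → ℂ) ρ = -δ₂ * (a₂ : G → ℂ) ρ - δ₃ * (a₃ : G → ℂ) ρ ∧
        1 + δ₁ * (a₁ : G → ℂ) ρ = δ₁ * (χ' j : G → ℂ) ρ) ∧
      (∀ j, (χ' j : G → ℂ) 1 = (a₁ : G → ℂ) 1 + δ₁) ∧ (a₁ : G → ℂ) 1 + δ₁ ≠ 0 ∧
      ∃ K : ℂ, K * Nat.card (Subgroup.centralizer ({σ ^ 2 ^ (n - 2)} : Set G)) = Nat.card G ∧
        2 * ((D.refl.card : ℂ) * D.refl.card) = K * (1 + (δ₁ : ℂ) / (a₁ : G → ℂ) 1 -
            4 * ((δ₁ : ℂ) / ((a₁ : G → ℂ) 1 + δ₁))) ∧
        8 * (((reflClass D 0).card : ℂ) * (reflClass D 1).card) = K * (1 + (δ₁ : ℂ) / (a₁ : G → ℂ) 1 +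
            ((δ₂ : ℂ) / (a₂ : G → ℂ) 1 + (δ₃ : ℂ) / (a₃ : G → ℂ) 1)) := by
  have hq : 2 ^ (n - 1) = 2 * 2 ^ (n - 2) := two_mul_pow D.hn
  have hh2 := D.two_le_half
  have hheven : Even (2 ^ (n - 2)) := Nat.even_pow.2 ⟨even_two, by have := D.hn; omega⟩
  obtain ⟨a₁, a₂, a₃, χ', δ₁, δ₂, δ₃, e1, e2, e3, hinjχ, t1, t2, t3, -, -, -, t7, hB, hv, hrel, hsum⟩ :=
    D.exists_table hM hζ
  have hpowh : ζ ^ 2 ^ (n - 2) = -1 := by
    have h1 : ζ ^ 2 ^ (n - 2) * ζ ^ 2 ^ (n - 2) = 1 := by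
      rw [← pow_add, ← two_mul, ← hq, hζ.pow_eq_one]
    exact (mul_self_eq_one_iff.1 h1).resolve_left (hζ.pow_ne_one_of_pos_of_lt (by omega) (by omega))
  have hd' : ∀ j, (χ' j : G → ℂ) 1 = (a₁ : G → ℂ) 1 + δ₁ := fun j => by
    have h := (hrel 1 (by simp) j).2
    rcases e1 with rfl | rfl <;> push_cast at h ⊢
    · linear_combination -h
    · linear_combination h
  have hj0 : 0 < 2 ^ (n - 2) - 1 := by omega
  have hd'0 : (a₁ : G → ℂ) 1 + δ₁ ≠ 0 := by
    rw [← hd' ⟨0, hj0⟩]; exact irr_one_ne_zero _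
  -- involutions
  have hinv : ∀ v : G, orderOf v = 2 → IsConj (σ ^ 2 ^ (n - 2)) v := by
    intro v hv2
    obtain ⟨R, hR⟩ := (IsPGroup.of_card (n := 1) (by rw [Nat.card_zpowers, hv2, pow_one]) :
      IsPGroup 2 (Subgroup.zpowers v)).exists_le_sylow
    obtain ⟨g, hg⟩ := MulAction.exists_smul_eq G R P
    have hgv : g * v * g⁻¹ ∈ (P : Subgroup G) := by
      rw [← hg, Sylow.smul_def, Sylow.pointwise_smul_def]
      exact Subgroup.smul_mem_pointwise_smul _ (MulAut.conj g) _ (hR (Subgroup.mem_zpowers v))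
    have hgv2 : orderOf (g * v * g⁻¹) = 2 := by rw [CfsgLib.Invol.orderOf_conj_eq, hv2]
    have hcv : IsConj v (g * v * g⁻¹) := isConj_iff.2 ⟨g, rfl⟩
    refine IsConj.trans ?_ hcv.symm
    rcases D.cases _ hgv with h | h
    · rcases D.eq_z h (CfsgLib.Invol.mul_self_eq_one hgv2) with h' | h'
      · exact absurd h' (CfsgLib.Invol.ne_one hgv2)
      · rw [h']
    · obtain ⟨i, hi⟩ := mem_powers_iff_mem_zpowers.2 h
      have hi' : g * v * g⁻¹ = σ ^ i * τ := by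
        rw [show σ ^ i = g * v * g⁻¹ * τ from hi, mul_assoc _ τ τ,
          CfsgLib.Invol.mul_self_eq_one D.ordτ, mul_one]
      rw [hi']
      rcases Nat.even_or_odd i with ⟨k, rfl⟩ | ⟨k, rfl⟩
      · exact hconj.1.trans (isConj_iff.2 ⟨σ ^ k, by rw [D.conj_τ_pow, two_mul]⟩)
      · refine hconj.2.trans (isConj_iff.2 ⟨σ ^ k, ?_⟩)
        rw [pow_succ', mul_assoc σ (σ ^ (2 * k)), ← D.conj_τ_pow]
        group
  -- the class sums
  let e : ℂ := (δ₂ : ℂ) / (a₂ : G → ℂ) 1 + (δ₃ : ℂ) / (a₃ : G → ℂ) 1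
  let a : ℂ := (δ₁ : ℂ) / (a₁ : G → ℂ) 1
  let b : ℂ := (δ₁ : ℂ) / ((a₁ : G → ℂ) 1 + δ₁)
  have hS : ∀ l : ℕ, 0 < l → l < 2 ^ (n - 1) →
      ∑ ψ ∈ univ.filter (· ∈ principalBlock M G), conj ((ψ : G → ℂ) (σ ^ l)) *
          (ψ : G → ℂ) (σ ^ 2 ^ (n - 2)) * (ψ : G → ℂ) (σ ^ 2 ^ (n - 2)) / (ψ : G → ℂ) 1 =
        1 + a - (-1) ^ l * e + 4 * b * (-1 - (-1) ^ l) := by
    intro l hl0 hl
    have hreal : ∀ ψ : IrrCharacter G, conj ((ψ : G → ℂ) (σ ^ l)) = (ψ : G → ℂ) (σ ^ l) := fun ψ => by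
      rw [conj_irr]
      exact CfsgLib.Char.IsClassFunction.apply_eq_of_isConj (isClassFunction_irr ψ)
        (D.isConj_inv (Subgroup.npow_mem_zpowers σ l)).symm
    simp only [hreal]
    obtain ⟨v1, v2, v3, v4⟩ := hv l hl0 hl
    obtain ⟨z1, z2, z3, z4⟩ := hv (2 ^ (n - 2)) (by omega) (by omega)
    have hp4 : ∀ j : Fin (2 ^ (n - 2) - 1),
        (χ' j : G → ℂ) (σ ^ l) * (χ' j : G → ℂ) (σ ^ 2 ^ (n - 2)) *
          (χ' j : G → ℂ) (σ ^ 2 ^ (n - 2)) / (χ' j : G → ℂ) 1 =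
        4 * b * (ζ ^ (((j : ℕ) + 1) * l) + (ζ ^ (((j : ℕ) + 1) * l))⁻¹) := fun j => by
      rw [v4 j, z4 j, hd' j,
        show ζ ^ (((j : ℕ) + 1) * 2 ^ (n - 2)) = (-1) ^ ((j : ℕ) + 1) by
          rw [mul_comm, pow_mul, hpowh]]
      simp only [b]
      rcases neg_one_pow_eq_or ℂ ((j : ℕ) + 1) with e' | e' <;> rw [e'] <;>
        rcases e1 with rfl | rfl <;> push_cast <;> ring
    rw [hsum, v1, v2, v3, z1, z2, z3, sum_congr rfl fun j _ => hp4 j, ← mul_sum,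
      sum_pairs (hq ▸ hζ) (by omega) hl0 (hq ▸ hl)]
    simp only [oneIrr_apply, e, a, pow_succ, hheven.neg_one_pow]
    rcases e1 with rfl | rfl <;> rcases e2 with rfl | rfl <;> rcases e3 with rfl | rfl <;>
      push_cast <;> ring
  -- the counting
  set K := univ.filter (IsConj (σ ^ 2 ^ (n - 2))) with hK
  let N : ℕ → ℂ := fun l => (K.card : ℂ) *
    (((D.refl ×ˢ D.refl).filter
      fun uw => D.proj (uw.1 * uw.2) = σ ^ l ∨ D.proj (uw.1 * uw.2) = (σ ^ l)⁻¹).card : ℂ)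
  have hcount : ∀ l : ℕ, 0 < l → l < 2 ^ (n - 1) → ∀ m,
      (core 2 (σ ^ l)).index = 2 ^ m → N l * (2 ^ m : ℕ) =
        (K.card : ℂ) * K.card * (1 + a - (-1) ^ l * e + 4 * b * (-1 - (-1) ^ l)) := by
    intro l hl0 hl m hm
    have hl1 : σ ^ l ≠ 1 := pow_ne_one_of_lt_orderOf hl0.ne' (by rw [D.ordσ]; exact hl)
    obtain ⟨k, hk⟩ := D.exists_orderOf (Subgroup.npow_mem_zpowers σ l)
    have h := card_pairs hM hk hm (σ ^ 2 ^ (n - 2)) (σ ^ 2 ^ (n - 2))
    rw [D.card_section hinv (Subgroup.npow_mem_zpowers σ l) hl1, hS l hl0 hl, Nat.cast_mul] at h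
    exact h
  have hinvl : ∀ l, l ≤ 2 ^ (n - 1) → (σ ^ l)⁻¹ = σ ^ (2 * 2 ^ (n - 2) - l) := fun l hl => by
    symm
    refine eq_inv_of_mul_eq_one_left ?_
    rw [← pow_add, Nat.sub_add_cancel (hq ▸ hl), ← D.q_eq, pow_orderOf_eq_one]
  let F : ℕ → ℂ := fun l => ((D.fibre (σ ^ l)).card : ℂ)
  have hNh : N (2 ^ (n - 2)) = (K.card : ℂ) * F (2 ^ (n - 2)) := by
    simp only [N, F, D.z_inv, or_self, Data.fibre]
  have hNi : ∀ i : Fin (2 ^ (n - 2) - 1), N ((i : ℕ) + 1) =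
      (K.card : ℂ) * (F ((i : ℕ) + 1) + F (2 * 2 ^ (n - 2) - ((i : ℕ) + 1))) := fun i => by
    have hne : σ ^ ((i : ℕ) + 1) ≠ (σ ^ ((i : ℕ) + 1))⁻¹ := fun h => by
      rw [hinvl _ (by omega)] at h
      have := pow_injOn_Iio_orderOf (by rw [Set.mem_Iio, D.q_eq]; omega)
        (by rw [Set.mem_Iio, D.q_eq]; omega) h
      omega
    simp only [N, F, ← hinvl ((i : ℕ) + 1) (by omega), ← Nat.cast_add]
    congr 2
    rw [Data.fibre, Data.fibre, filter_or, card_union_of_disjoint]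
    rw [disjoint_filter]
    rintro uw - h h'
    exact hne (h.symm.trans h')
  have htot : (K.card : ℂ) * ((D.refl.card : ℂ) * D.refl.card) =
      2 * N (2 ^ (n - 2)) + ∑ i : Fin (2 ^ (n - 2) - 1), N ((i : ℕ) + 1) := by
    have h0 : F 0 = F (2 ^ (n - 2)) := by simp only [F, pow_zero, D.card_fibre_z]
    rw [← Nat.cast_mul, D.card_refl_sq, Nat.cast_sum, sum_range_two_mul _ (by omega)]
    simp only [hNh, hNi, ← mul_sum]
    show (K.card : ℂ) * (F 0 + F (2 ^ (n - 2)) + ∑ i : Fin (2 ^ (n - 2) - 1),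
      (F ((i : ℕ) + 1) + F (2 * 2 ^ (n - 2) - ((i : ℕ) + 1)))) = _
    rw [h0]; ring
  have hmid := hcount (2 ^ (n - 2)) (by omega) (by omega) n D.index_core_z
  rw [hheven.neg_one_pow] at hmid
  have hrot : ∀ i : Fin (2 ^ (n - 2) - 1), N ((i : ℕ) + 1) * (2 ^ (n - 1) : ℕ) =
      (K.card : ℂ) * K.card *
        (1 + a - 4 * b + (-1) ^ (i : ℕ) * (e + 4 * b)) := fun i => by
    rw [hcount ((i : ℕ) + 1) (by omega) (by omega) (n - 1) (D.index_core_rot
      (Subgroup.npow_mem_zpowers σ _) (pow_ne_one_of_lt_orderOf (by omega) (by rw [D.ordσ]; omega))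
      fun h => by
        have := pow_injOn_Iio_orderOf (by rw [Set.mem_Iio, D.q_eq]; omega)
          (by rw [Set.mem_Iio, D.q_eq]; omega) h
        omega), pow_succ]
    ring
  have hmain : 2 * ((D.refl.card : ℂ) * D.refl.card) = (K.card : ℂ) * (1 + a - 4 * b) := by
    have h3 := congrArg (· * ((2 ^ (n - 1) : ℕ) : ℂ)) htot
    simp only [add_mul, sum_mul, hrot, ← mul_sum, sum_add_distrib, sum_const, card_univ,
      Fintype.card_fin, nsmul_eq_mul] at h3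
    rw [← sum_mul, sum_neg_one_pow (Nat.Even.sub_odd (by omega) hheven odd_one),
      Nat.cast_sub (by omega : 1 ≤ 2 ^ (n - 2))] at h3
    have hn2 : (2 ^ n : ℕ) = 2 * 2 ^ (n - 1) := by
      rw [← pow_succ', show n - 1 + 1 = n by have := D.hn; omega]
    rw [hn2, hq] at hmid
    rw [hq] at h3
    push_cast at hmid h3
    have hK0 : (K.card : ℂ) ≠ 0 :=
      Nat.cast_ne_zero.2 (card_pos.2 ⟨_, mem_filter.2 ⟨mem_univ _, IsConj.refl (σ ^ 2 ^ (n - 2))⟩⟩).ne'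
    have hh0 : ((2 : ℂ) ^ (n - 2)) ≠ 0 := pow_ne_zero _ two_ne_zero
    refine mul_left_cancel₀ (mul_ne_zero hK0 hh0) ?_
    linear_combination h3 + hmid
  refine ⟨a₁, a₂, a₃, χ', δ₁, δ₂, δ₃, ⟨e1, e2, e3⟩, ⟨t1, t2, t3, fun j => (t7 j).2.2.2⟩, hinjχ,
    hB, hv, hrel, hd', hd'0, (K.card : ℂ), ?_, hmain, ?_⟩
  · rw [← Nat.cast_mul, hK, CfsgLib.Block.Chr.card_class, Subgroup.index_mul_card]
  · have h1 := hcount 1 one_pos (by omega) (n - 1) (D.index_core_rot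
      (Subgroup.npow_mem_zpowers σ _) (pow_ne_one_of_lt_orderOf (by omega) (by rw [D.ordσ]; omega))
      fun h => by
        have := pow_injOn_Iio_orderOf (by rw [Set.mem_Iio, D.q_eq]; omega)
          (by rw [Set.mem_Iio, D.q_eq]; omega) h
        omega)
    have hne : σ ^ 1 ≠ (σ ^ 1)⁻¹ := fun h => by
      rw [hinvl _ (by omega)] at h
      have := pow_injOn_Iio_orderOf (by rw [Set.mem_Iio, D.q_eq]; omega)
        (by rw [Set.mem_Iio, D.q_eq]; omega) h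
      omega
    have hN1 : N 1 = (K.card : ℂ) * (2 * ((D.fibre σ).card : ℂ)) := by
      have hu : ((D.refl ×ˢ D.refl).filter fun uw => D.proj (uw.1 * uw.2) = σ ^ 1 ∨
          D.proj (uw.1 * uw.2) = (σ ^ 1)⁻¹).card = (D.fibre σ).card + (D.fibre σ⁻¹).card := by
        rw [filter_or, card_union_of_disjoint, pow_one]
        · rfl
        · rw [disjoint_filter]
          rintro uw - h h'
          exact hne (h.symm.trans h')
      show (K.card : ℂ) * _ = _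
      rw [hu, D.card_fibre_inv σ]
      push_cast
      ring
    have hF : (2 ^ (n - 2) : ℂ) * ((D.fibre σ).card : ℂ) =
        2 * (((reflClass D 0).card : ℂ) * (reflClass D 1).card) := by
      exact_mod_cast card_fibre_sigma D
    rw [hN1, hq] at h1
    push_cast at h1
    have hK0 : (K.card : ℂ) ≠ 0 :=
      Nat.cast_ne_zero.2 (card_pos.2 ⟨_, mem_filter.2 ⟨mem_univ _, IsConj.refl (σ ^ 2 ^ (n - 2))⟩⟩).ne'
    refine mul_left_cancel₀ hK0 ?_
    linear_combination h1 - 4 * (K.card : ℂ) * hF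

end CfsgLib.GW
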