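import Cfsg.Agent.GW.A7End.Rational
import Cfsg.Agent.Blocks.Congr

/-!
# No large ratio between the fixed point groups of the two classes of reflections
-/

set_option autoImplicit false
set_option linter.style.haveILetI false
set_option linter.unusedSectionVars false

namespace CfsgLib.GW

open Cfsg Finset CfsgLib.Block CfsgLib.Block.Chr CfsgLib.SectionCount CfsgLib.DihPrincipal
open CfsgLib.SL2C
open scoped ComplexConjugate
open scoped Classical

universe u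

/-- The degree equations have no solution when the ratio is at least four. -/
theorem ratio_arith {a b x Y₂ Y₃ : ℕ} {δ s₂ s₃ : ℤ} (ha : 0 < a) (hab : 4 * a ≤ b)
    (hδ : δ = 1 ∨ δ = -1) (hs₂ : s₂ = 1 ∨ s₂ = -1) (hs₃ : s₃ = 1 ∨ s₃ = -1)
    (hY₂ : 9 ≤ Y₂) (hY₃ : 9 ≤ Y₃) (hx9 : 9 ≤ x) (h8 : 8 ∣ (x : ℤ) - δ)
    (hsum : s₂ * Y₂ + s₃ * Y₃ = -δ * (x + δ))
    (heq : s₂ * Y₂ * (s₃ * Y₃) * (((a : ℤ) + b) ^ 2 * (x + δ) ^ 2 - 4 * a * b * (x - δ) ^ 2) =
      δ * x * (x + δ) ^ 2 * ((a : ℤ) + b) ^ 2) : False := by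
  have hs0 : (0 : ℤ) < ((a : ℤ) + b) ^ 2 := by positivity
  have hD : ((a : ℤ) + b) ^ 2 * (25 * (x + δ) ^ 2 - 16 * (x - δ) ^ 2) ≤
      25 * (((a : ℤ) + b) ^ 2 * (x + δ) ^ 2 - 4 * a * b * (x - δ) ^ 2) := by
    have hab' : 4 * (a : ℤ) ≤ b := by exact_mod_cast hab
    nlinarith [mul_nonneg (mul_nonneg (show (0 : ℤ) ≤ b - 4 * a by omega)
      (show (0 : ℤ) ≤ 4 * b - a by omega)) (sq_nonneg ((x : ℤ) - δ))]
  set D : ℤ := ((a : ℤ) + b) ^ 2 * (x + δ) ^ 2 - 4 * a * b * (x - δ) ^ 2 with hDdef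
  have hpos : (0 : ℤ) < 25 * (x + δ) ^ 2 - 16 * (x - δ) ^ 2 := by
    rcases hδ with rfl | rfl
    · nlinarith
    · nlinarith [show (15 : ℤ) ≤ x by omega]
  have hDpos : 0 < D := by nlinarith [mul_pos hs0 hpos]
  have hY₂' : (9 : ℤ) ≤ Y₂ := by exact_mod_cast hY₂
  have hY₃' : (9 : ℤ) ≤ Y₃ := by exact_mod_cast hY₃
  rcases hδ with rfl | rfl
  · have hx : (9 : ℤ) ≤ x := by omega
    have hR : (0 : ℤ) < 1 * x * (x + 1) ^ 2 * ((a : ℤ) + b) ^ 2 :=
      mul_pos (mul_pos (by omega) (pow_pos (by omega) 2)) hs0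
    have hp : s₂ * Y₂ * (s₃ * Y₃) = (Y₂ : ℤ) * Y₃ ∧ (Y₂ : ℤ) + Y₃ = x + 1 := by
      rcases hs₂ with rfl | rfl <;> rcases hs₃ with rfl | rfl
      · exfalso; omega
      · exfalso; nlinarith [mul_pos (show (0 : ℤ) < Y₂ * Y₃ by positivity) hDpos]
      · exfalso; nlinarith [mul_pos (show (0 : ℤ) < Y₂ * Y₃ by positivity) hDpos]
      · exact ⟨by ring, by omega⟩
    rw [hp.1] at heq
    have hx17 : (17 : ℤ) ≤ x := by omega
    have hP : 9 * ((x : ℤ) + 1) - 81 ≤ Y₂ * Y₃ := by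
      nlinarith [mul_nonneg (show (0 : ℤ) ≤ Y₂ - 9 by omega) (show (0 : ℤ) ≤ Y₃ - 9 by omega), hp.2]
    have h1 : (9 * ((x : ℤ) + 1) - 81) * ((25 * (x + 1) ^ 2 - 16 * (x - 1) ^ 2) * ((a : ℤ) + b) ^ 2) ≤
        25 * (x * (x + 1) ^ 2) * ((a : ℤ) + b) ^ 2 := by
      calc _ ≤ (9 * ((x : ℤ) + 1) - 81) * (25 * D) := mul_le_mul_of_nonneg_left (by linarith) (by omega)
        _ ≤ Y₂ * Y₃ * (25 * D) := mul_le_mul_of_nonneg_right hP (by omega)
        _ = _ := by linear_combination 25 * heq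
    have h2 : (9 * ((x : ℤ) + 1) - 81) * (25 * (x + 1) ^ 2 - 16 * (x - 1) ^ 2) ≤
        25 * (x * (x + 1) ^ 2) := le_of_mul_le_mul_right (by linarith) hs0
    nlinarith [mul_nonneg (mul_nonneg (show (0 : ℤ) ≤ x - 17 by omega) (show (0 : ℤ) ≤ x by omega))
      (show (0 : ℤ) ≤ x by omega), mul_nonneg (show (0 : ℤ) ≤ x - 17 by omega) (show (0 : ℤ) ≤ x by omega)]
  · have hx : (15 : ℤ) ≤ x := by omega
    have hn : s₂ * Y₂ * (s₃ * Y₃) < 0 := by
      by_contra hc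
      have h1 := mul_nonneg (not_lt.1 hc) hDpos.le
      rw [heq] at h1
      have h2 : (0 : ℤ) < x * (x + -1) ^ 2 * ((a : ℤ) + b) ^ 2 :=
        mul_pos (mul_pos (by omega) (pow_pos (by omega) 2)) hs0
      linarith
    have hp : s₂ * Y₂ * (s₃ * Y₃) = -((Y₂ : ℤ) * Y₃) ∧ ((x : ℤ) + 8) * 9 ≤ Y₂ * Y₃ := by
      rcases hs₂ with rfl | rfl <;> rcases hs₃ with rfl | rfl
      · exfalso; nlinarith
      · refine ⟨by ring, ?_⟩
        nlinarith [mul_le_mul (show (x : ℤ) + 8 ≤ Y₂ by omega) (show (9 : ℤ) ≤ Y₃ by omega)]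
      · refine ⟨by ring, ?_⟩
        nlinarith [mul_le_mul (show (x : ℤ) + 8 ≤ Y₃ by omega) (show (9 : ℤ) ≤ Y₂ by omega)]
      · exfalso; nlinarith
    rw [hp.1] at heq
    have h1 : ((x : ℤ) + 8) * 9 * ((25 * (x + -1) ^ 2 - 16 * (x - -1) ^ 2) * ((a : ℤ) + b) ^ 2) ≤
        25 * (x * (x + -1) ^ 2) * ((a : ℤ) + b) ^ 2 := by
      calc _ ≤ ((x : ℤ) + 8) * 9 * (25 * D) := mul_le_mul_of_nonneg_left (by linarith) (by omega)
        _ ≤ Y₂ * Y₃ * (25 * D) := mul_le_mul_of_nonneg_right hp.2 (by omega)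
        _ = _ := by linear_combination -25 * heq
    have h2 : ((x : ℤ) + 8) * 9 * (25 * (x + -1) ^ 2 - 16 * (x - -1) ^ 2) ≤
        25 * (x * (x + -1) ^ 2) := le_of_mul_le_mul_right (by linarith) hs0
    nlinarith [mul_nonneg (mul_nonneg (show (0 : ℤ) ≤ x - 15 by omega) (show (0 : ℤ) ≤ x by omega))
      (show (0 : ℤ) ≤ x by omega), mul_nonneg (show (0 : ℤ) ≤ x - 15 by omega) (show (0 : ℤ) ≤ x by omega)]

variable {G : Type u} [Group G] [Fintype G]

/-- The principal block is closed under inversion of the argument. -/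
theorem exists_inv_mem {M : Ideal AlgInt} [M.IsPrime] {χ : IrrCharacter G}
    (hχ : χ ∈ principalBlock M G) :
    ∃ ψ : IrrCharacter G, ψ ∈ principalBlock M G ∧ ∀ g, (ψ : G → ℂ) g = (χ : G → ℂ) g⁻¹ := by
  have h0 : 0 < Nat.card G := Nat.card_pos
  have hk : (Nat.card G - 1).Coprime (Nat.card G) := by
    rw [Nat.coprime_self_sub_left h0]
    exact Nat.coprime_one_left _
  have hinv : ∀ g : G, g ^ (Nat.card G - 1) = g⁻¹ := fun g => by
    refine eq_inv_of_mul_eq_one_left ?_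
    rw [← pow_succ, Nat.sub_add_cancel h0, pow_card_eq_one']
  let ψ : IrrCharacter G :=
    ⟨fun x => (χ : G → ℂ) (x ^ (Nat.card G - 1)), CfsgLib.Char.PowTwist.isIrrCharacter_pow hk χ.2⟩
  refine ⟨ψ, fun x => ?_, fun g => by show (χ : G → ℂ) _ = _; rw [hinv]⟩
  have h : SameBlock M (fun _ => (1 : ℂ)) (χ : G → ℂ) := hχ
  have h1 := h x⁻¹
  have hcen : Subgroup.centralizer ({x⁻¹} : Set G) = Subgroup.centralizer ({x} : Set G) := by
    ext y
    simp only [Subgroup.mem_centralizer_singleton_iff]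
    exact ⟨fun h => by simpa using (show Commute y x⁻¹ from h).inv_right.eq,
      fun h => (show Commute y x from h).inv_right.eq⟩
  simp only [centralChar, hcen] at h1 ⊢
  simpa [ψ, hinv, -Nat.card_eq_fintype_card] using h1

variable [Fact (Nat.Prime 2)] {P : Sylow 2 G} {σ τ : G} {n : ℕ} (D : Data P σ τ n)
include D

/-- The lower bound nine for a real character. -/
theorem lower_nine [IsSimpleGroup G] {M : Ideal AlgInt} [M.IsPrime] (hM : IsPModular 2 M)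
    (hconj : IsConj (σ ^ 2 ^ (n - 2)) τ ∧ IsConj (σ ^ 2 ^ (n - 2)) (σ * τ))
    {χ : IrrCharacter G} (hχ : χ ∈ principalBlock M G) (h1 : (χ : G → ℂ) ≠ fun _ => 1)
    (hreal : ∀ g, (χ : G → ℂ) g⁻¹ = (χ : G → ℂ) g) {H : Subgroup G} (hHP : H ≤ (P : Subgroup G))
    (h4 : Nat.card H = 4) {c : ℤ} (hc : c = 1 ∨ c = -1)
    (hval : ∀ h ∈ H, h ≠ 1 → (χ : G → ℂ) h = c) {y : G} {p : ℕ} (hp : p.Prime) (hp2 : Odd p)
    (hy : orderOf y = p) (hcy : ∀ h ∈ H, Commute h y) : 9 ≤ charDegree (χ : G → ℂ) := by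
  haveI : Fintype H := Fintype.ofFinite _
  haveI : Fintype (Subgroup.zpowers y) := Fintype.ofFinite _
  have hy1 : y ≠ 1 := fun e => hp.ne_one (by rw [← hy, e, orderOf_one])
  have hcard : Fintype.card (Subgroup.zpowers y) = p := by
    rw [← Nat.card_eq_fintype_card, Nat.card_zpowers, hy]
  have hcm : ∀ h : H, ∀ w : Subgroup.zpowers y, Commute (h : G) w := fun h w => by
    obtain ⟨i, hi⟩ := Subgroup.mem_zpowers_iff.1 w.2
    rw [← hi]; exact (hcy h h.2).zpow_right i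
  have hv : ∀ h : H, h ≠ 1 → ∀ w : Subgroup.zpowers y, (χ : G → ℂ) ((h : G) * w) = (χ : G → ℂ) h :=
    fun h h1 w => sylow_apply D hM hconj hχ (hHP h.2) (fun e => h1 (Subtype.ext e)) (hcm h w)
      (Odd.of_dvd_nat (hy ▸ hp2) (orderOf_dvd_of_mem_zpowers w.2))
  let f : Subgroup.zpowers y →* G := (Subgroup.zpowers y).subtype
  have hcm' : ∀ h : H, ∀ w : Subgroup.zpowers y, Commute (H.subtype h) (f w) := hcm
  choose m hm using fun μ => exists_mult_hom f (Subgroup.subtype_injective _) χ μ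
  have hsplit : ∀ μ, μ ≠ 1 → 4 ∣ m μ := by
    intro μ hμ
    obtain ⟨k, hk⟩ := mult_split (hcard ▸ hp2) f (Subgroup.subtype_injective _) H (P.2.to_le hHP)
      hcm χ hv μ hμ
    rw [← hm μ, h4, Nat.card_eq_fintype_card (α := Subgroup.zpowers y), hcard] at hk
    refine ⟨k, ?_⟩
    have : ((p * (4 * k) : ℕ) : ℂ) = ((p * m μ : ℕ) : ℂ) := by push_cast at hk ⊢; linear_combination hk
    exact Nat.eq_of_mul_eq_mul_left hp.pos (by exact_mod_cast this.symm)
  have hone : (4 : ℤ) ∣ (m 1 : ℤ) - c := by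
    have hinj : Function.Injective (H.subtype.noncommCoprod f hcm') := by
      refine (MonoidHom.noncommCoprod_injective _ _ _).2
        ⟨H.subtype_injective, Subgroup.subtype_injective _, ?_⟩
      rw [Subgroup.disjoint_def]
      intro g hg hg'
      rw [Subgroup.range_subtype] at hg hg'
      obtain ⟨i, hi⟩ := IsPGroup.iff_orderOf.1 P.2 ⟨g, hHP hg⟩
      rw [Subgroup.orderOf_mk] at hi
      refine orderOf_eq_one_iff.1 (Nat.eq_one_of_dvd_coprimes
        ((Nat.coprime_two_left.2 (hy ▸ hp2)).pow_left i) (dvd_of_eq hi) ?_)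
      exact orderOf_dvd_of_mem_zpowers hg'
    obtain ⟨k, hk⟩ := exists_mult_hom _ hinj χ 1
    rw [Nat.card_prod, h4, Fintype.sum_prod_type, ← Finset.add_sum_erase univ _ (mem_univ (1 : H)),
      Nat.card_eq_fintype_card, hcard] at hk
    rw [sum_congr rfl fun h hh => sum_congr rfl fun w _ => show
        (χ : G → ℂ) ((H.subtype.noncommCoprod f hcm') (h, w)) *
          conj (((1 : H × Subgroup.zpowers y →* ℂˣ) (h, w) : ℂˣ) : ℂ) = (c : ℂ) by
      simp [f, hv h (mem_erase.1 hh).1,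
        hval h h.2 (fun e => (mem_erase.1 hh).1 (Subtype.ext e))]] at hk
    rw [sum_const, sum_const, card_erase_of_mem (mem_univ _), card_univ, card_univ, hcard,
      ← Nat.card_eq_fintype_card (α := H), h4] at hk
    have h0 := hm 1
    rw [Nat.card_eq_fintype_card, hcard] at h0
    have h0' : ∑ w : Subgroup.zpowers y, (χ : G → ℂ) ((H.subtype.noncommCoprod f hcm') (1, w)) *
        conj (((1 : H × Subgroup.zpowers y →* ℂˣ) (1, w) : ℂˣ) : ℂ) = (p : ℂ) * m 1 := by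
      rw [h0]; simp [f]
    rw [h0'] at hk
    refine ⟨(k : ℤ) - c, ?_⟩
    have h5 : ((p : ℤ) * ((m 1 : ℤ) - c) : ℤ) = (p : ℤ) * (4 * ((k : ℤ) - c)) := by
      have : (((p : ℤ) * ((m 1 : ℤ) - c) : ℤ) : ℂ) = (((p : ℤ) * (4 * ((k : ℤ) - c)) : ℤ) : ℂ) := by
        push_cast at hk ⊢
        simp only [nsmul_eq_mul, Nat.cast_ofNat] at hk
        linear_combination -hk
      exact_mod_cast this
    exact mul_left_cancel₀ (Int.natCast_ne_zero.2 hp.ne_zero) h5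
  have hcomm := zpowers_comm y
  have hp0 : ((p : ℕ) : ℂ) ≠ 0 := Nat.cast_ne_zero.2 hp.ne_zero
  have hinv : ∀ w : Subgroup.zpowers y, (χ : G → ℂ) (w : G) = ∑ μ, (m μ : ℂ) * (μ w : ℂ) := by
    intro w
    refine mul_left_cancel₀ hp0 ?_
    rw [mul_sum]
    conv_rhs =>
      arg 2; ext μ
      rw [← mul_assoc, ← hcard, ← Nat.card_eq_fintype_card, hm μ, sum_mul]
    rw [sum_comm, sum_eq_single w]
    · simp only [mul_assoc, conj_char, MonoidHom.inv_apply, ← Units.val_mul, inv_mul_cancel,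
        Units.val_one, mul_one, sum_const, card_univ, card_dual hcomm, hcard, nsmul_eq_mul]
      rfl
    · intro v _ hv'
      simp only [mul_assoc, conj_char, MonoidHom.inv_apply, ← map_inv, ← Units.val_mul, ← map_mul,
        ← mul_sum, sum_dual hcomm, if_neg fun h : v⁻¹ * w = 1 => hv' (inv_mul_eq_one.1 h), mul_zero]
    · simp
  have hx : charDegree (χ : G → ℂ) = ∑ μ, m μ := by
    have h := hinv 1
    simp only [OneMemClass.coe_one, (irr_one χ).1, map_one, Units.val_one, mul_one] at h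
    exact_mod_cast h
  obtain ⟨μ, hμ1, hμm⟩ : ∃ μ : Subgroup.zpowers y →* ℂˣ, μ ≠ 1 ∧ m μ ≠ 0 := by
    by_contra hne
    simp only [not_exists, not_and, not_not] at hne
    have hval1 : ∀ w : Subgroup.zpowers y, (χ : G → ℂ) (w : G) = m 1 := fun w => by
      rw [hinv w, sum_eq_single (1 : Subgroup.zpowers y →* ℂˣ)
        (fun ν _ hν => by rw [hne ν hν]; simp) (by simp)]
      simp
    have h := CfsgLib.PairSimple.eq_oneIrr_of_apply χ hy1
      ((hval1 ⟨y, Subgroup.mem_zpowers y⟩).trans (hval1 1).symm)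
    exact h1 (by rw [h]; exact funext oneIrr_apply)
  have hμi : μ⁻¹ ≠ μ := by
    intro h
    refine hμ1 (MonoidHom.ext fun w => ?_)
    have h2 : μ w * μ w = 1 := by
      have := DFunLike.congr_fun h w
      rw [MonoidHom.inv_apply] at this
      rw [← inv_mul_cancel (μ w), this]
    have h3 : orderOf (μ w) ∣ 2 := orderOf_dvd_of_pow_eq_one (by rw [sq, h2])
    have h5 : orderOf (μ w) ∣ p := hcard ▸ (orderOf_map_dvd μ w).trans orderOf_dvd_card
    exact orderOf_eq_one_iff.1 (Nat.eq_one_of_dvd_coprimes (Nat.coprime_two_left.2 hp2) h3 h5)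
  have hμi1 : μ⁻¹ ≠ 1 := fun h => hμ1 (MonoidHom.ext fun w => by
    simpa using DFunLike.congr_fun h w)
  have hsym : m μ⁻¹ = m μ := by
    have h := hm μ⁻¹
    rw [← Equiv.sum_comp (Equiv.inv (Subgroup.zpowers y))] at h
    rw [sum_congr rfl fun w _ => show (χ : G → ℂ) (f (Equiv.inv _ w)) * conj ((μ⁻¹) (Equiv.inv _ w) : ℂ) =
        (χ : G → ℂ) (f w) * conj (μ w : ℂ) by
      rw [Equiv.inv_apply, MonoidHom.inv_apply, map_inv μ, inv_inv, map_inv f, hreal], ← hm μ] at h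
    exact_mod_cast mul_left_cancel₀ (Nat.cast_ne_zero.2 Nat.card_pos.ne') h
  have h3 : ∑ ν ∈ ({1, μ, μ⁻¹} : Finset (Subgroup.zpowers y →* ℂˣ)), m ν ≤ ∑ ν, m ν :=
    sum_le_sum_of_subset_of_nonneg (subset_univ _) fun ν _ _ => Nat.zero_le _
  rw [sum_insert (by simp [Ne.symm hμ1, Ne.symm hμi1]), sum_insert (by simp [hμi.symm]),
    sum_singleton, hsym, ← hx] at h3
  obtain ⟨e, he⟩ := hsplit μ hμ1
  have : 1 ≤ m 1 := by
    obtain ⟨q, hq⟩ := hone
    rcases hc with rfl | rfl <;> omega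
  omega

end CfsgLib.GW
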