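import Cfsg.Agent.GW.A7End.Ratio

/-!
# The ratio between the two fixed point groups is less than four
-/

set_option autoImplicit false
set_option linter.style.haveILetI false
set_option linter.unusedSectionVars false

namespace CfsgLib.GW

open Cfsg Finset CfsgLib.Block CfsgLib.Block.Chr CfsgLib.SectionCount CfsgLib.DihPrincipal
open scoped ComplexConjugate
open scoped Classical

universe u

variable {G : Type u} [Group G] [Fintype G] [Fact (Nat.Prime 2)] {P : Sylow 2 G} {σ τ : G} {n : ℕ}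

/-- The fixed points of `τ` are less than four times those of `σ * τ`. -/
theorem card_fixT_lt [IsSimpleGroup G] (D : Data P σ τ n)
    (hconj : IsConj (σ ^ 2 ^ (n - 2)) τ ∧ IsConj (σ ^ 2 ^ (n - 2)) (σ * τ)) :
    Nat.card (fixT D) < 4 * Nat.card (fixST D) := by
  by_contra hlt
  rw [not_lt] at hlt
  obtain ⟨M, hM⟩ := exists_isPModular Nat.prime_two
  haveI : M.IsPrime := hM.2.1.isPrime
  letI := CfsgLib.Block.Chr.irrFintype (G := G)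
  obtain ⟨ζ, hζ⟩ : ∃ ζ : ℂ, IsPrimitiveRoot ζ (2 ^ (n - 1)) :=
    ⟨_, Complex.isPrimitiveRoot_exp _ (by positivity)⟩
  obtain ⟨a₁, a₂, a₃, χ', δ₁, δ₂, δ₃, ⟨e1, e2, e3⟩, ⟨t1, t2, t3, t4⟩, hinj, hB, hv, hrel, hd', hd'0,
    K, hK, hE1, hE2⟩ := pair_equations D hM hconj hζ
  have hn := D.hn
  have hh2 := D.two_le_half
  have hq : 2 ^ (n - 1) = 2 * 2 ^ (n - 2) := two_mul_pow hn
  have hqn : 2 ^ n = 4 * 2 ^ (n - 2) := by
    rw [show (4 : ℕ) = 2 ^ 2 by norm_num, ← pow_add, show 2 + (n - 2) = n by omega]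
  have hev : ∀ l : ℕ, Even l → ((-1 : ℂ) ^ (l + 1)) = -1 := fun l hl => by
    rw [pow_succ, hl.neg_one_pow, one_mul]
  have hheven : Even (2 ^ (n - 2)) := Nat.even_pow.2 ⟨even_two, by omega⟩
  set x := charDegree (a₁ : G → ℂ) with hxdef
  set y₂ := charDegree (a₂ : G → ℂ) with hy2def
  set y₃ := charDegree (a₃ : G → ℂ) with hy3def
  have hx1 : (a₁ : G → ℂ) 1 = (x : ℂ) := (irr_one a₁).1
  have hy2 : (a₂ : G → ℂ) 1 = (y₂ : ℂ) := (irr_one a₂).1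
  have hy3 : (a₃ : G → ℂ) 1 = (y₃ : ℂ) := (irr_one a₃).1
  -- the two classes of reflections
  have hA := card_reflClass_mul D 0 (Or.inl rfl)
  have hBc := card_reflClass_mul D 1 (Or.inr rfl)
  rw [zpow_zero, one_mul] at hA
  rw [zpow_one] at hBc
  change (reflClass D 0).card * (4 * Nat.card (fixT D)) = _ at hA
  change (reflClass D 1).card * (4 * Nat.card (fixST D)) = _ at hBc
  set A := (reflClass D 0).card with hAdef
  set B := (reflClass D 1).card with hBdef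
  set d₁ := Nat.card (fixT D) with hd1def
  set d₂ := Nat.card (fixST D) with hd2def
  obtain ⟨a, ha⟩ : d₁ ∣ Nat.card (oddU D) := Subgroup.card_dvd_of_le inf_le_left
  obtain ⟨b, hb⟩ : d₂ ∣ Nat.card (oddU D) := Subgroup.card_dvd_of_le inf_le_left
  have hd10 : 0 < d₁ := Nat.card_pos
  have hd20 : 0 < d₂ := Nat.card_pos
  have hu : 0 < Nat.card (oddU D) := Nat.card_pos
  have ha0 : 0 < a := Nat.pos_of_ne_zero fun h => by rw [h, mul_zero] at ha; omega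
  have hab : 4 * a ≤ b := by
    refine Nat.le_of_mul_le_mul_left (?_ : d₂ * (4 * a) ≤ d₂ * b) hd20
    calc d₂ * (4 * a) = 4 * d₂ * a := by ring
      _ ≤ d₁ * a := Nat.mul_le_mul_right a hlt
      _ = d₂ * b := ha.symm.trans hb
  have haodd : Odd a := Odd.of_dvd_nat (odd_card_oddU D) ⟨d₁, by rw [ha, mul_comm]⟩
  have hbodd : Odd b := Odd.of_dvd_nat (odd_card_oddU D) ⟨d₂, by rw [hb, mul_comm]⟩
  rw [hqn] at hA hBc
  have hA' : A = 2 ^ (n - 2) * a := by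
    refine Nat.eq_of_mul_eq_mul_right (show 0 < 4 * d₁ by omega) ?_
    rw [hA, ha]; ring
  have hB' : B = 2 ^ (n - 2) * b := by
    refine Nat.eq_of_mul_eq_mul_right (show 0 < 4 * d₂ by omega) ?_
    rw [hBc, hb]; ring
  have hrefl : D.refl.card = A + B := by
    rw [refl_eq_union D, card_union_of_disjoint (disjoint_reflClass D)]
  rw [hrefl, hA', hB'] at hE1
  rw [hA', hB'] at hE2
  push_cast at hE1 hE2
  set h : ℂ := (2 : ℂ) ^ (n - 2) with hhdef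
  have hh0 : h ≠ 0 := pow_ne_zero _ two_ne_zero
  have hab0 : (a : ℂ) + b ≠ 0 := by exact_mod_cast (show a + b ≠ 0 by omega)
  have hxne : (x : ℂ) ≠ 0 := hx1 ▸ irr_one_ne_zero a₁
  have hy2ne : (y₂ : ℂ) ≠ 0 := hy2 ▸ irr_one_ne_zero a₂
  have hy3ne : (y₃ : ℂ) ≠ 0 := hy3 ▸ irr_one_ne_zero a₃
  rw [hx1] at hE1 hE2 hd'0
  rw [hy2, hy3] at hE2
  have hδsq : (δ₁ : ℂ) ^ 2 = 1 := by rcases e1 with rfl | rfl <;> norm_num
  have h2sq : (δ₂ : ℂ) ^ 2 = 1 := by rcases e2 with rfl | rfl <;> norm_num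
  have h3sq : (δ₃ : ℂ) ^ 2 = 1 := by rcases e3 with rfl | rfl <;> norm_num
  have hj0 : 0 < 2 ^ (n - 2) - 1 := by omega
  have hsum : (δ₂ : ℤ) * y₂ + δ₃ * y₃ = -δ₁ * (x + δ₁) := by
    have h1 := (hrel 1 (by simp) ⟨0, hj0⟩).1
    rw [hx1, hy2, hy3] at h1
    have : (((δ₂ : ℤ) * y₂ + δ₃ * y₃ : ℤ) : ℂ) = ((-δ₁ * (x + δ₁) : ℤ) : ℂ) := by
      push_cast; linear_combination h1 + hδsq
    exact_mod_cast this
  set X : ℂ := (x : ℂ) - δ₁ with hX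
  set X' : ℂ := (x : ℂ) + δ₁ with hX'
  have hQ1 : (1 + (δ₁ : ℂ) / x - 4 * ((δ₁ : ℂ) / X')) * ((x : ℂ) * X') = X ^ 2 := by
    have hne : (x : ℂ) + δ₁ ≠ 0 := hX' ▸ hd'0
    rw [hX, hX']
    field_simp
    ring
  have hX0 : X ≠ 0 := by
    intro h0
    rw [h0, zero_pow two_ne_zero] at hQ1
    rw [(mul_eq_zero.1 hQ1).resolve_right (mul_ne_zero hxne hd'0), mul_zero] at hE1
    exact mul_ne_zero two_ne_zero (mul_ne_zero (mul_ne_zero hh0 hab0) (mul_ne_zero hh0 hab0))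
      (by rw [← hE1]; ring)
  have hsumC : (δ₂ : ℂ) * y₂ + δ₃ * y₃ = -δ₁ * X' := by
    rw [hX']; exact_mod_cast hsum
  have he : ((δ₂ : ℂ) / y₂ + (δ₃ : ℂ) / y₃) * (δ₂ * y₂ * (δ₃ * y₃)) = -δ₁ * X' := by
    have e' : ((δ₂ : ℂ) / y₂ + (δ₃ : ℂ) / y₃) * (δ₂ * y₂ * (δ₃ * y₃)) =
        (δ₂ : ℂ) ^ 2 * (δ₃ * y₃) + (δ₃ : ℂ) ^ 2 * (δ₂ * y₂) := by
      field_simp
    rw [e', h2sq, h3sq, ← hsumC]; ring
  have heq : (δ₂ : ℤ) * y₂ * (δ₃ * y₃) *
      (((a : ℤ) + b) ^ 2 * (x + δ₁) ^ 2 - 4 * a * b * (x - δ₁) ^ 2) =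
      δ₁ * x * (x + δ₁) ^ 2 * ((a : ℤ) + b) ^ 2 := by
    set Q1 : ℂ := 1 + (δ₁ : ℂ) / x - 4 * ((δ₁ : ℂ) / X') with hQ1def
    set Q2 : ℂ := 1 + (δ₁ : ℂ) / x + ((δ₂ : ℂ) / y₂ + (δ₃ : ℂ) / y₃) with hQ2def
    have hQ2 : Q2 * ((x : ℂ) * X' * (δ₂ * y₂ * (δ₃ * y₃))) =
        X' ^ 2 * (δ₂ * y₂ * (δ₃ * y₃)) - δ₁ * x * X' ^ 2 := by
      have e' : (1 + (δ₁ : ℂ) / x) * x = X' := by rw [hX']; field_simp
      rw [hQ2def]
      linear_combination (X' * (δ₂ * y₂ * (δ₃ * y₃))) * e' + ((x : ℂ) * X') * he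
    have h12 : 4 * (a : ℂ) * b * Q1 = ((a : ℂ) + b) ^ 2 * Q2 := by
      have e1' : 2 * (h ^ 2 * ((a : ℂ) + b) ^ 2) = K * Q1 := by linear_combination hE1
      have e2' : 8 * (h ^ 2 * a * b) = K * Q2 := by linear_combination hE2
      refine mul_left_cancel₀ (show (2 * h ^ 2 : ℂ) ≠ 0 by
        exact mul_ne_zero two_ne_zero (pow_ne_zero 2 hh0)) ?_
      linear_combination Q1 * e2' - Q2 * e1'
    have : (((δ₂ : ℤ) * y₂ * (δ₃ * y₃) *
        (((a : ℤ) + b) ^ 2 * (x + δ₁) ^ 2 - 4 * a * b * (x - δ₁) ^ 2) : ℤ) : ℂ) =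
        ((δ₁ * x * (x + δ₁) ^ 2 * ((a : ℤ) + b) ^ 2 : ℤ) : ℂ) := by
      push_cast
      rw [← hX, ← hX']
      linear_combination (4 * (a : ℂ) * b * (δ₂ * y₂ * (δ₃ * y₃))) * hQ1 -
        ((a : ℂ) + b) ^ 2 * hQ2 - ((x : ℂ) * X' * (δ₂ * y₂ * (δ₃ * y₃))) * h12
    exact_mod_cast this
  have hord : ((Nat.card G : ℕ) : ℤ) * (x - δ₁) ^ 2 =
      8 * ((2 ^ (n - 2) : ℕ) : ℤ) ^ 3 * Nat.card (oddU D) * ((a : ℤ) + b) ^ 2 * (x * (x + δ₁)) := by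
    have hc : (Nat.card (Subgroup.centralizer ({σ ^ 2 ^ (n - 2)} : Set G)) : ℂ) =
        Nat.card (oddU D) * (4 * h) := by
      rw [← card_oddU_mul D, hqn]; push_cast; ring
    have : ((((Nat.card G : ℕ) : ℤ) * (x - δ₁) ^ 2 : ℤ) : ℂ) =
        ((8 * ((2 ^ (n - 2) : ℕ) : ℤ) ^ 3 * Nat.card (oddU D) * ((a : ℤ) + b) ^ 2 *
          (x * (x + δ₁)) : ℤ) : ℂ) := by
      push_cast
      rw [← hK, hc, ← hX, ← hX', ← hhdef]
      linear_combination (-(Nat.card (oddU D) : ℂ) * (4 * h) * ((x : ℂ) * X')) * hE1 -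
        (K * (Nat.card (oddU D) * (4 * h))) * hQ1
    exact_mod_cast this
  -- the characters are real
  have hrot : ∀ χ : IrrCharacter G, ∀ l : ℕ,
      (χ : G → ℂ) (σ ^ l)⁻¹ = (χ : G → ℂ) (σ ^ l) := fun χ l =>
    (CfsgLib.Char.IsClassFunction.apply_eq_of_isConj (isClassFunction_irr χ)
      (D.isConj_inv (Subgroup.npow_mem_zpowers σ l))).symm
  have hv1 := hv 1 one_pos (by omega)
  have hv2 := hv 2 two_pos (by omega)
  have hvh := hv (2 ^ (n - 2)) (by omega) (by omega)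
  have hζh : ζ ^ 2 ^ (n - 2) = -1 := by
    have h4 : ζ ^ 2 ^ (n - 2) * ζ ^ 2 ^ (n - 2) = 1 := by
      rw [← pow_add, ← two_mul, ← hq, hζ.pow_eq_one]
    exact (mul_self_eq_one_iff.1 h4).resolve_left (hζ.pow_ne_one_of_pos_of_lt (by omega) (by omega))
  have hbig : ∀ j, (χ' j : G → ℂ) (σ ^ 2 ^ (n - 2)) ≠ 1 ∧ (χ' j : G → ℂ) (σ ^ 2 ^ (n - 2)) ≠ -1 := by
    intro j
    rw [hvh.2.2.2 j, mul_comm ((j : ℕ) + 1), pow_mul, hζh]
    rcases neg_one_pow_eq_or ℂ ((j : ℕ) + 1) with e | e <;> rw [e] <;>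
      rcases e1 with rfl | rfl <;> norm_num
  have hmem1 : a₁ ∈ principalBlock M G ∧ a₂ ∈ principalBlock M G ∧ a₃ ∈ principalBlock M G := by
    rw [hB]
    exact ⟨Or.inr (Or.inl rfl), Or.inr (Or.inr (Or.inl rfl)), Or.inr (Or.inr (Or.inr (Or.inl rfl)))⟩
  have hnat : ∀ {p q : ℕ}, ((p : ℂ) = q) → p = q := fun h => by exact_mod_cast h
  have h12ne : ∀ e : ℤ, (e = 1 ∨ e = -1) →
      ¬ ((e : ℂ) * (-1) ^ (1 + 1) = (δ₁ : ℂ) ∧ (e : ℂ) * (-1) ^ (2 + 1) = (δ₁ : ℂ)) := by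
    rintro e (rfl | rfl) ⟨h1, h2⟩ <;> norm_num at h1 h2 <;> rw [← h1] at h2 <;> norm_num at h2
  -- the two changing characters cannot be exchanged
  have hswap : ¬ (y₂ = y₃ ∧ δ₂ = δ₃) := by
    rintro ⟨e, f⟩
    rw [← e, ← f] at hsum heq
    have hsq : δ₂ ^ 2 = 1 := by rcases e2 with rfl | rfl <;> norm_num
    have hd1 : δ₁ ^ 2 = 1 := by rcases e1 with rfl | rfl <;> norm_num
    have hx'0 : (x : ℤ) + δ₁ ≠ 0 := by
      intro h0; apply hd'0; rw [hX']; exact_mod_cast h0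
    have h4y : 4 * ((δ₂ : ℤ) * y₂ * (δ₂ * y₂)) = (x + δ₁) ^ 2 := by
      linear_combination (2 * (δ₂ : ℤ) * y₂ - δ₁ * (x + δ₁)) * hsum + ((x : ℤ) + δ₁) ^ 2 * hd1
    have h5 : ((x : ℤ) + δ₁) ^ 2 * ((x - δ₁) ^ 2 * ((b : ℤ) - a) ^ 2) = 0 := by
      linear_combination 4 * heq -
        (((a : ℤ) + b) ^ 2 * (x + δ₁) ^ 2 - 4 * a * b * (x - δ₁) ^ 2) * h4y
    have hX0' : (x : ℤ) - δ₁ ≠ 0 := by
      intro h0; apply hX0; rw [hX]; exact_mod_cast h0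
    have : ((b : ℤ) - a) ≠ 0 := by omega
    exact mul_ne_zero (pow_ne_zero 2 hx'0)
      (mul_ne_zero (pow_ne_zero 2 hX0') (pow_ne_zero 2 this)) h5
  have hreal1 : ∀ g, (a₁ : G → ℂ) g⁻¹ = (a₁ : G → ℂ) g := by
    obtain ⟨ψ, hψ, hψv⟩ := exists_inv_mem hmem1.1
    have hs : ∀ l : ℕ, (ψ : G → ℂ) (σ ^ l) = (a₁ : G → ℂ) (σ ^ l) := fun l => by rw [hψv, hrot]
    rw [hB] at hψ
    rcases hψ with e | rfl | rfl | rfl | ⟨j, rfl⟩
    · exact absurd (funext fun g => by have := hψv g⁻¹; rw [e, inv_inv] at this; exact this.symm) t1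
    · exact fun g => (hψv g).symm
    · exact absurd ⟨(hv1.2.1.symm.trans (hs 1)).trans hv1.1, (hv2.2.1.symm.trans (hs 2)).trans hv2.1⟩
        (h12ne _ e2)
    · exact absurd ⟨(hv1.2.2.1.symm.trans (hs 1)).trans hv1.1,
        (hv2.2.2.1.symm.trans (hs 2)).trans hv2.1⟩ (h12ne _ e3)
    · have h := hψv 1
      rw [inv_one, hd' j, hx1] at h
      exact absurd (add_eq_left.1 h) (by rcases e1 with rfl | rfl <;> norm_num)
  have hreal23 : ∀ (p q : IrrCharacter G) (ε ε' : ℤ) (yp yq : ℕ), (ε = 1 ∨ ε = -1) →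
      p ∈ principalBlock M G → (p : G → ℂ) ≠ (fun _ => 1) →
      (∀ l : ℕ, 0 < l → l < 2 ^ (n - 1) → (p : G → ℂ) (σ ^ l) = ε * (-1) ^ (l + 1)) →
      (∀ l : ℕ, 0 < l → l < 2 ^ (n - 1) → (q : G → ℂ) (σ ^ l) = ε' * (-1) ^ (l + 1)) →
      (p : G → ℂ) 1 = yp → (q : G → ℂ) 1 = yq → ¬ (yp = yq ∧ ε = ε') →
      (∀ ψ ∈ principalBlock M G, (ψ : G → ℂ) = (fun _ => 1) ∨ ψ = a₁ ∨ ψ = p ∨ ψ = q ∨
        ∃ j, ψ = χ' j) → ∀ g, (p : G → ℂ) g⁻¹ = (p : G → ℂ) g := by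
    intro p q ε ε' yp yq hε hp hp1 hpv hqv hpy hqy hne hlist
    obtain ⟨ψ, hψ, hψv⟩ := exists_inv_mem hp
    have hs : ∀ l : ℕ, (ψ : G → ℂ) (σ ^ l) = (p : G → ℂ) (σ ^ l) := fun l => by rw [hψv, hrot]
    rcases hlist ψ hψ with e | rfl | rfl | rfl | ⟨j, rfl⟩
    · exact absurd (funext fun g => by have := hψv g⁻¹; rw [e, inv_inv] at this; exact this.symm) hp1
    · exact absurd ⟨((hpv 1 one_pos (by omega)).symm.trans (hs 1).symm).trans hv1.1,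
        ((hpv 2 two_pos (by omega)).symm.trans (hs 2).symm).trans hv2.1⟩ (h12ne _ hε)
    · exact fun g => (hψv g).symm
    · refine absurd ⟨?_, ?_⟩ hne
      · have h := hψv 1
        rw [inv_one, hpy, hqy] at h
        exact (hnat h).symm
      · have h := hs 1
        rw [hpv 1 one_pos (by omega), hqv 1 one_pos (by omega)] at h
        norm_num at h
        exact_mod_cast h.symm
    · have h := hs (2 ^ (n - 2))
      rw [hpv _ (by omega) (by omega), hev _ hheven] at h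
      rcases hε with rfl | rfl <;> norm_num at h
      · exact absurd h (hbig j).2
      · exact absurd h (hbig j).1
  have hlist : ∀ ψ ∈ principalBlock M G, (ψ : G → ℂ) = (fun _ => 1) ∨ ψ = a₁ ∨ ψ = a₂ ∨ ψ = a₃ ∨
      ∃ j, ψ = χ' j := fun ψ hψ => by rw [hB] at hψ; exact hψ
  have hreal2 := hreal23 a₂ a₃ δ₂ δ₃ y₂ y₃ e2 hmem1.2.1 t2 (fun l h0 hl => (hv l h0 hl).2.1)
    (fun l h0 hl => (hv l h0 hl).2.2.1) hy2 hy3 hswap hlist
  have hreal3 := hreal23 a₃ a₂ δ₃ δ₂ y₃ y₂ e3 hmem1.2.2 t3 (fun l h0 hl => (hv l h0 hl).2.2.1)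
    (fun l h0 hl => (hv l h0 hl).2.1) hy3 hy2 (fun h => hswap ⟨h.1.symm, h.2.symm⟩)
    (fun ψ hψ => by rcases hlist ψ hψ with h | h | h | h | h <;> tauto)
  -- the four group
  set z := σ ^ 2 ^ (n - 2) with hz
  have hcz : ∀ (u : Subgroup.zpowers z) (r : Subgroup.zpowers τ),
      Commute ((Subgroup.zpowers z).subtype u) ((Subgroup.zpowers τ).subtype r) := fun u r => by
    obtain ⟨i, hi⟩ := Subgroup.mem_zpowers_iff.1 u.2
    obtain ⟨j, hj⟩ := Subgroup.mem_zpowers_iff.1 r.2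
    simp only [Subgroup.coe_subtype, ← hi, ← hj]
    exact (D.commute_z D.τ_mem).symm.zpow_zpow i j
  set f := (Subgroup.zpowers z).subtype.noncommCoprod (Subgroup.zpowers τ).subtype hcz with hf
  have hτσ : τ ∉ Subgroup.zpowers σ := by
    intro hmem
    obtain ⟨j, hj⟩ := Subgroup.mem_zpowers_iff.1 hmem
    have h1 : τ * σ * τ⁻¹ = σ := by
      rw [← hj, ((Commute.refl σ).zpow_left j).eq, mul_inv_cancel_right]
    have h2 : σ * σ = 1 := by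
      have := h1.symm.trans D.rel
      nth_rw 2 [this]; exact mul_inv_cancel σ
    have h3 : orderOf σ ∣ 2 := orderOf_dvd_of_pow_eq_one (by rw [sq, h2])
    rw [D.ordσ] at h3
    have := Nat.le_of_dvd two_pos h3
    omega
  have hfi : Function.Injective f := by
    refine (MonoidHom.noncommCoprod_injective _ _ _).2
      ⟨Subgroup.subtype_injective _, Subgroup.subtype_injective _, ?_⟩
    rw [Subgroup.disjoint_def]
    intro g hg hg'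
    rw [Subgroup.range_subtype] at hg hg'
    obtain ⟨j, hj⟩ := Subgroup.mem_zpowers_iff.1 hg'
    rw [← zpow_mod_orderOf, D.ordτ] at hj
    rcases (show j % ((2 : ℕ) : ℤ) = 0 ∨ j % ((2 : ℕ) : ℤ) = 1 by omega) with e | e <;> rw [e] at hj
    · rw [← hj, zpow_zero]
    · rw [zpow_one] at hj
      exact absurd (Subgroup.zpowers_le.2 Data.z_mem_zpowers (hj ▸ hg)) hτσ
  set H := f.range with hH
  have hH4 : Nat.card H = 4 := by
    rw [hH, ← Nat.card_congr (MonoidHom.ofInjective hfi).toEquiv, Nat.card_prod, Nat.card_zpowers,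
      Nat.card_zpowers, D.orderOf_z, D.ordτ]
  have hHP : H ≤ (P : Subgroup G) := by
    rintro g ⟨⟨u, r⟩, rfl⟩
    exact mul_mem (D.le_sylow (Subgroup.zpowers_le.2 Data.z_mem_zpowers u.2))
      (Subgroup.zpowers_le.2 D.τ_mem r.2)
  have hHz : ∀ g ∈ H, g ≠ 1 → IsConj z g := by
    rintro g ⟨⟨⟨u, hu'⟩, ⟨r, hr⟩⟩, rfl⟩ hg1
    obtain ⟨i, hi⟩ := Subgroup.mem_zpowers_iff.1 hu'
    obtain ⟨j, hj⟩ := Subgroup.mem_zpowers_iff.1 hr
    have hg : f (⟨u, hu'⟩, ⟨r, hr⟩) = u * r := rfl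
    rw [hg] at hg1 ⊢
    subst hi hj
    rw [← zpow_mod_orderOf τ j, D.ordτ] at hg1 ⊢
    rcases (show j % ((2 : ℕ) : ℤ) = 0 ∨ j % ((2 : ℕ) : ℤ) = 1 by omega) with e | e <;>
      rw [e] at hg1 ⊢
    · rw [zpow_zero, mul_one] at hg1 ⊢
      rw [← zpow_mod_orderOf z i, D.orderOf_z] at hg1 ⊢
      rcases (show i % ((2 : ℕ) : ℤ) = 0 ∨ i % ((2 : ℕ) : ℤ) = 1 by omega) with e' | e' <;>
        rw [e'] at hg1 ⊢
      · exact absurd (zpow_zero z) hg1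
      · rw [zpow_one]
    · rw [zpow_one]
      have h := zpow_refl_conj D hconj (i := ((2 ^ (n - 2) : ℕ) : ℤ) * i)
      rwa [zpow_mul, zpow_natCast] at h
  -- an element of prime order fixed by `τ`
  have hd14 : 4 ≤ d₁ := by omega
  obtain ⟨p, hp, hpd⟩ := Nat.exists_prime_and_dvd (show d₁ ≠ 1 by omega)
  haveI : Fact p.Prime := ⟨hp⟩
  obtain ⟨⟨y, hy⟩, hyo⟩ := exists_prime_orderOf_dvd_card' p hpd
  rw [Subgroup.orderOf_mk] at hyo
  have hpodd : Odd p := hyo ▸ ((mem_oddU_iff D).1 hy.1).2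
  have hcy : ∀ g ∈ H, Commute g y := by
    rintro g ⟨⟨⟨u, hu'⟩, ⟨r, hr⟩⟩, rfl⟩
    obtain ⟨i, hi⟩ := Subgroup.mem_zpowers_iff.1 hu'
    obtain ⟨j, hj⟩ := Subgroup.mem_zpowers_iff.1 hr
    show Commute (u * r) y
    rw [← hi, ← hj]
    exact ((show Commute z y from
      (Subgroup.mem_centralizer_singleton_iff.1 (oddU_le D hy.1)).symm).zpow_left i).mul_left
      ((show Commute τ y from (Subgroup.mem_centralizer_singleton_iff.1 hy.2).symm).zpow_left j)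
  have hval : ∀ (χ : IrrCharacter G) (v : ℂ), (χ : G → ℂ) z = v →
      ∀ g ∈ H, g ≠ 1 → (χ : G → ℂ) g = v := fun χ v h g hg hg1 => by
    rw [← h]
    exact (CfsgLib.Char.IsClassFunction.apply_eq_of_isConj (isClassFunction_irr χ) (hHz g hg hg1)).symm
  have lx := lower_nine D hM hconj hmem1.1 t1 hreal1 hHP hH4 e1 (hval a₁ _ hvh.1) hp hpodd hyo hcy
  have ly := lower_nine D hM hconj hmem1.2.1 t2 hreal2 hHP hH4 (c := -δ₂)
    (by rcases e2 with rfl | rfl <;> norm_num)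
    (hval a₂ _ (by rw [hvh.2.1, hev _ hheven]; push_cast; ring)) hp hpodd hyo hcy
  have lz := lower_nine D hM hconj hmem1.2.2 t3 hreal3 hHP hH4 (c := -δ₃)
    (by rcases e3 with rfl | rfl <;> norm_num)
    (hval a₃ _ (by rw [hvh.2.2.1, hev _ hheven]; push_cast; ring)) hp hpodd hyo hcy
  -- eight divides `x - δ₁`
  have h8 : 8 ∣ (x : ℤ) - δ₁ := by
    obtain ⟨g, hg, hgo⟩ : ∃ g, Nat.card G = 4 * 2 ^ (n - 2) * g ∧ Odd g :=
      ⟨(P : Subgroup G).index, by rw [← (P : Subgroup G).card_mul_index, D.card_sylow, hqn],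
        Nat.odd_iff.2 (Nat.two_dvd_ne_zero.1 P.not_dvd_index)⟩
    obtain ⟨k, hk⟩ : ∃ k, n - 2 = k + 1 := ⟨n - 3, by omega⟩
    obtain ⟨c, hc⟩ : 2 ∣ a + b := (haodd.add_odd hbodd).two_dvd
    obtain ⟨X₀, hX₀⟩ : ∃ X₀ : ℕ, (X₀ : ℤ) = x - δ₁ :=
      ⟨(x - δ₁).toNat, Int.toNat_of_nonneg (by omega)⟩
    rw [← hX₀, hg, hk, pow_succ] at hord
    have hc' : (a : ℤ) + b = 2 * c := by exact_mod_cast hc
    rw [hc'] at hord
    push_cast at hord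
    have h1 : (2 : ℕ) ^ 5 ∣ g * X₀ ^ 2 := by
      have h4 : ((2 ^ 5 : ℕ) : ℤ) ∣ ((g * X₀ ^ 2 : ℕ) : ℤ) := by
        refine ⟨(2 ^ k) ^ 2 * Nat.card (oddU D) * c ^ 2 * (x * (x + δ₁)), ?_⟩
        push_cast
        refine mul_left_cancel₀ (show (8 * (2 : ℤ) ^ k) ≠ 0 by positivity) ?_
        linear_combination hord
      exact_mod_cast h4
    have h2 : (2 : ℕ) ^ 5 ∣ X₀ ^ 2 :=
      ((Nat.coprime_two_left.2 hgo).pow_left 5).dvd_of_dvd_mul_left h1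
    have h3 : (2 : ℕ) ^ 3 ∣ X₀ := by
      rcases Nat.eq_zero_or_pos X₀ with h0 | h0
      · exact h0 ▸ dvd_zero _
      obtain ⟨e, m, hm, rfl⟩ := Nat.exists_eq_two_pow_mul_odd h0.ne'
      rw [mul_pow, ← pow_mul] at h2
      have h10 := ((Nat.coprime_two_left.2 hm).pow_left 5).pow_right 2 |>.dvd_of_dvd_mul_right h2
      have h11 : 5 ≤ e * 2 := (Nat.pow_dvd_pow_iff_le_right Nat.one_lt_two).1 h10
      exact dvd_mul_of_dvd_left (pow_dvd_pow 2 (by omega)) m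
    rw [← hX₀]
    exact_mod_cast h3
  exact ratio_arith ha0 hab e1 e2 e3 ly lz lx h8 hsum heq

end CfsgLib.GW
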