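import Cfsg.Agent.GW.A7End.Degrees
import Cfsg.Agent.Char.PowTwist

/-!
# The character of degree fourteen: rationality and multiplicities
-/

set_option autoImplicit false
set_option linter.style.haveILetI false
set_option linter.unusedSectionVars false

namespace CfsgLib.GW

open Cfsg Finset CfsgLib.Block CfsgLib.Block.Chr CfsgLib.SectionCount CfsgLib.DihPrincipal
open CfsgLib.SL2C
open scoped ComplexConjugate
open scoped Classical

universe u

theorem sum_const_off {A : Type*} [Group A] [Fintype A] (F : A → ℂ) (C : ℂ)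
    (h : ∀ y, y ≠ 1 → F y = C) (μ : A →* ℂˣ) :
    ∑ y, F y * conj (μ y : ℂ) =
      F 1 - C + C * if μ = 1 then (Fintype.card A : ℂ) else 0 := by
  have h1 : ∀ y : A, F y * conj (μ y : ℂ) =
      (if y = 1 then F 1 - C else 0) + C * conj (μ y : ℂ) := fun y => by
    by_cases hy : y = 1
    · subst hy; simp
    · rw [h y hy, if_neg hy, zero_add]
  rw [sum_congr rfl fun y _ => h1 y, sum_add_distrib, sum_ite_eq' univ (1 : A) fun _ => F 1 - C,
    if_pos (mem_univ _), ← mul_sum, ← map_sum, sum_char]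
  split_ifs <;> simp

theorem eq_or_inv_of_card_three {H : Type*} [Group H] [Finite H] (h3 : Nat.card H = 3) {a y : H}
    (ha : a ≠ 1) (hy : y ≠ 1) : y = a ∨ y = a⁻¹ := by
  haveI : Fact (Nat.Prime 3) := ⟨Nat.prime_three⟩
  have ho : orderOf a = 3 := orderOf_eq_prime (by rw [← h3]; exact pow_card_eq_one') ha
  obtain ⟨i, rfl⟩ := Subgroup.mem_zpowers_iff.1 (mem_zpowers_of_prime_card h3 ha (g' := y))
  rw [← zpow_mod_orderOf, ho] at hy ⊢
  push_cast at hy ⊢
  have h0 := Int.emod_nonneg i (show (3 : ℤ) ≠ 0 by norm_num)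
  have h1 := Int.emod_lt_of_pos i (show (0 : ℤ) < 3 by norm_num)
  rcases (show i % 3 = 0 ∨ i % 3 = 1 ∨ i % 3 = 2 by omega) with e | e | e <;> rw [e] at hy ⊢
  · exact absurd (zpow_zero a) hy
  · exact Or.inl (zpow_one a)
  · refine Or.inr (eq_inv_of_mul_eq_one_left ?_)
    rw [← zpow_add_one, show (2 : ℤ) + 1 = ((3 : ℕ) : ℤ) by norm_num, zpow_natCast, ← ho,
      pow_orderOf_eq_one]

variable {G : Type u} [Group G] [Fintype G] [Fact (Nat.Prime 2)] {P : Sylow 2 G} {σ τ : G} {n : ℕ}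

theorem mult_split {A : Type*} [Group A] [Fintype A] (hodd : Odd (Fintype.card A)) (f : A →* G)
    (hf : Function.Injective f) (H : Subgroup G) [Fintype H] (hH : IsPGroup 2 H)
    (hc : ∀ h : H, ∀ y : A, Commute (h : G) (f y)) (χ : IrrCharacter G)
    (hv : ∀ h : H, h ≠ 1 → ∀ y : A, (χ : G → ℂ) ((h : G) * f y) = (χ : G → ℂ) h)
    (μ : A →* ℂˣ) (hμ : μ ≠ 1) :
    ∃ k : ℕ, (Nat.card H * Fintype.card A * k : ℂ) = ∑ y : A, (χ : G → ℂ) (f y) * conj (μ y : ℂ) := by
  have hc' : ∀ h : H, ∀ y : A, Commute (H.subtype h) (f y) := hc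
  have hinj : Function.Injective (H.subtype.noncommCoprod f hc') := by
    refine (MonoidHom.noncommCoprod_injective _ _ _).2 ⟨H.subtype_injective, hf, ?_⟩
    rw [Subgroup.disjoint_def]
    rintro x hx ⟨y, rfl⟩
    rw [Subgroup.range_subtype] at hx
    obtain ⟨i, hi⟩ := IsPGroup.iff_orderOf.1 hH ⟨f y, hx⟩
    rw [Subgroup.orderOf_mk, orderOf_injective f hf] at hi
    have h1 : orderOf y = 1 := Nat.eq_one_of_dvd_coprimes
      ((Nat.coprime_two_left.2 hodd).pow_left i) (dvd_of_eq hi) orderOf_dvd_card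
    rw [orderOf_eq_one_iff.1 h1, map_one]
  obtain ⟨k, hk⟩ := exists_mult_hom _ hinj χ (μ.comp (MonoidHom.snd _ _))
  refine ⟨k, ?_⟩
  rw [Nat.card_prod, Nat.cast_mul, Nat.card_eq_fintype_card (α := A), Fintype.sum_prod_type,
    ← Finset.add_sum_erase univ _ (mem_univ (1 : H))] at hk
  rw [hk, add_eq_left.2 (sum_eq_zero fun h hh => ?_)]
  · refine sum_congr rfl fun y _ => ?_
    simp
  · have h1 := (mem_erase.1 hh).1
    simp only [MonoidHom.noncommCoprod_apply, Subgroup.coe_subtype, MonoidHom.comp_apply,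
      MonoidHom.coe_snd, hv h h1]
    rw [← mul_sum, ← map_sum, sum_char, if_neg hμ, map_zero, mul_zero]

variable (D : Data P σ τ n)
include D

variable {M : Ideal AlgInt} [M.IsPrime]

theorem sylow_apply (hM : IsPModular 2 M)
    (hconj : IsConj (σ ^ 2 ^ (n - 2)) τ ∧ IsConj (σ ^ 2 ^ (n - 2)) (σ * τ)) {χ : IrrCharacter G}
    (hχ : χ ∈ principalBlock M G) {s : G} (hs : s ∈ (P : Subgroup G)) (hs1 : s ≠ 1) {y : G}
    (hy : Commute s y) (ho : Odd (orderOf y)) : (χ : G → ℂ) (s * y) = (χ : G → ℂ) s := by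
  rcases D.cases s hs with h | h
  · exact rot_apply D hM hχ h hs1 hy ho
  · obtain ⟨i, hi⟩ := Subgroup.mem_zpowers_iff.1 h
    have hs' : s = σ ^ i * τ := by
      rw [hi, mul_assoc, CfsgLib.Invol.mul_self_eq_one D.ordτ, mul_one]
    subst hs'
    have h0 := z_conj_apply D hM hχ (zpow_refl_conj D hconj (i := i)) (Commute.one_right _)
      (y := (1 : G)) (by simp)
    rw [mul_one] at h0
    rw [z_conj_apply D hM hχ (zpow_refl_conj D hconj) hy ho, h0]

variable {a φ b c : IrrCharacter G} (Sh : Shape D M a φ b c)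
include Sh

/-- The character of degree fourteen is rational. -/
theorem phi_pow (g : G) {j : ℕ} (hj : j.Coprime (orderOf g)) :
    (φ : G → ℂ) (g ^ j) = (φ : G → ℂ) g := by
  haveI : NeZero (Nat.card G) := ⟨Nat.card_pos.ne'⟩
  obtain ⟨v, hv⟩ := ZMod.unitsMap_surjective (orderOf_dvd_natCard g) (ZMod.unitOfCoprime j hj)
  set k := (v : ZMod (Nat.card G)).val with hkdef
  have hk : k.Coprime (Nat.card G) := ZMod.val_coe_unit_coprime v
  have hkj : g ^ k = g ^ j := by
    refine pow_eq_pow_iff_modEq.2 ((ZMod.natCast_eq_natCast_iff _ _ _).1 ?_)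
    have h := congrArg (fun u : (ZMod (orderOf g))ˣ => (u : ZMod (orderOf g))) hv
    simp only [ZMod.unitsMap_val, ZMod.coe_unitOfCoprime] at h
    rw [hkdef, ZMod.natCast_val]; exact h
  rw [← hkj]
  let ψ : IrrCharacter G := ⟨fun x => (φ : G → ℂ) (x ^ k), CfsgLib.Char.PowTwist.isIrrCharacter_pow hk φ.2⟩
  have hcen : ∀ x : G, Subgroup.centralizer ({x ^ k} : Set G) = Subgroup.centralizer ({x} : Set G) := by
    intro x
    ext y
    simp only [Subgroup.mem_centralizer_singleton_iff]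
    refine ⟨fun h => ?_, fun h => ((show Commute y x from h).pow_right k).eq⟩
    obtain ⟨l, hl⟩ := exists_pow_eq_self_of_coprime (hk.coprime_dvd_right (orderOf_dvd_natCard x))
    have h1 := ((show Commute y (x ^ k) from h).pow_right l).eq
    rwa [hl] at h1
  have hψB : ψ ∈ principalBlock M G := by
    intro x
    have h : SameBlock M (fun _ => (1 : ℂ)) (φ : G → ℂ) := Sh.mem.2.1
    have h1 := h (x ^ k)
    simp only [centralChar, hcen x] at h1 ⊢
    simpa [ψ] using h1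
  have hψ2 : (ψ : G → ℂ) (σ ^ 2) = 2 := by
    have hodd : Odd k := by
      refine Nat.coprime_two_left.1 (hk.coprime_dvd_right ?_).symm
      rw [← D.orderOf_z]; exact orderOf_dvd_natCard _
    obtain ⟨m, hm⟩ := hodd
    have h4 : σ ^ 4 = 1 := by
      have := pow_orderOf_eq_one σ
      rwa [D.ordσ, Sh.n_eq] at this
    show (φ : G → ℂ) ((σ ^ 2) ^ k) = 2
    rw [hm, pow_succ, ← pow_mul, show 2 * (2 * m) = 4 * m by ring, pow_mul, h4, one_pow, one_mul,
      Sh.val.2.1]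
  have hψ1 : (ψ : G → ℂ) 1 = 14 := by
    show (φ : G → ℂ) (1 ^ k) = 14
    rw [one_pow, Sh.deg_φ]
  rcases Sh.block ψ hψB with h | h | h | h | h
  · rw [h] at hψ1; norm_num at hψ1
  · rw [h, Sh.deg_a] at hψ1; norm_num at hψ1
  · exact congrArg (fun χ : IrrCharacter G => (χ : G → ℂ) g) h
  · exact absurd (h ▸ hψ2) Sh.val_ne.1
  · exact absurd (h ▸ hψ2) Sh.val_ne.2

theorem phi_inv (g : G) : (φ : G → ℂ) g⁻¹ = (φ : G → ℂ) g := by
  have h := orderOf_pos g
  have e : g ^ (orderOf g - 1) = g⁻¹ := by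
    refine eq_inv_of_mul_eq_one_left ?_
    rw [← pow_succ, Nat.sub_add_cancel h, pow_orderOf_eq_one]
  rw [← e]
  refine phi_pow D Sh g ?_
  rw [Nat.coprime_self_sub_left h]
  exact Nat.coprime_one_left _

theorem phi_ne_deg [IsSimpleGroup G] {g : G} (hg : g ≠ 1) : (φ : G → ℂ) g ≠ 14 := by
  intro h
  have h1 := CfsgLib.PairSimple.eq_oneIrr_of_apply φ hg (h.trans Sh.deg_φ.symm)
  exact Sh.ne.2.2.2.2.2.2.1 (by rw [h1]; exact funext oneIrr_apply)

variable (hM : IsPModular 2 M)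
include hM

/-- The value on an element of prime order commuting with a four element part of the Sylow
subgroup. -/
theorem prime_value [IsSimpleGroup G]
    (hconj : IsConj (σ ^ 2 ^ (n - 2)) τ ∧ IsConj (σ ^ 2 ^ (n - 2)) (σ * τ)) {H : Subgroup G}
    (hHP : H ≤ (P : Subgroup G)) (hH4 : Nat.card H = 4) {v : G} {p : ℕ} (hp : p.Prime) (hp2 : Odd p)
    (hv : orderOf v = p) (hc : ∀ h ∈ H, Commute h v) : p = 3 ∧ (φ : G → ℂ) v = 2 := by
  have hv1 : v ≠ 1 := fun e => hp.ne_one (by rw [← hv, e, orderOf_one])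
  haveI : Fintype H := Fintype.ofFinite _
  haveI : Fintype (Subgroup.zpowers v) := Fintype.ofFinite _
  have hcard : Fintype.card (Subgroup.zpowers v) = p := by
    rw [← Nat.card_eq_fintype_card, Nat.card_zpowers, hv]
  have hB : ∀ y : Subgroup.zpowers v, y ≠ 1 → (φ : G → ℂ) (y : G) = (φ : G → ℂ) v := by
    intro y hy
    obtain ⟨i, hi⟩ := mem_powers_iff_mem_zpowers.2 y.2
    simp only at hi
    rw [← hi]
    refine phi_pow D Sh v ?_
    rw [hv, Nat.coprime_comm, hp.coprime_iff_not_dvd]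
    intro hd
    refine hy (Subtype.ext ?_)
    rw [← hv, orderOf_dvd_iff_pow_eq_one] at hd
    rw [← hi, hd]; rfl
  obtain ⟨μ, hμ⟩ := exists_char_ne_one (A := Subgroup.zpowers v) (zpowers_comm v)
    (a := ⟨v, Subgroup.mem_zpowers v⟩) (fun e => hv1 (congrArg Subtype.val e))
  have hμ1 : μ ≠ 1 := fun e => hμ (by rw [e]; rfl)
  have hodd : ∀ y : Subgroup.zpowers v, Odd (orderOf (y : G)) := fun y =>
    Odd.of_dvd_nat (hv ▸ hp2) (orderOf_dvd_of_mem_zpowers y.2)
  have hcy : ∀ h : H, ∀ y : Subgroup.zpowers v, Commute (h : G) y := fun h y => by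
    obtain ⟨i, hi⟩ := Subgroup.mem_zpowers_iff.1 y.2
    rw [← hi]; exact (hc h h.2).zpow_right i
  obtain ⟨k, hk⟩ := mult_split (hcard ▸ hp2) (Subgroup.zpowers v).subtype
    (Subgroup.subtype_injective _) H (P.2.to_le hHP) hcy φ
    (fun h h1 y => sylow_apply D hM hconj Sh.mem.2.1 (hHP h.2) (fun e => h1 (Subtype.ext e))
      (hcy h y) (hodd y)) μ hμ1
  obtain ⟨j, hj⟩ := exists_mult_hom (Subgroup.zpowers v).subtype (Subgroup.subtype_injective _) φ 1
  simp only [Subgroup.coe_subtype] at hk hj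
  rw [sum_const_off _ _ hB, if_neg hμ1, mul_zero, add_zero, OneMemClass.coe_one, Sh.deg_φ, hH4,
    hcard] at hk
  rw [sum_const_off _ _ hB, if_pos rfl, OneMemClass.coe_one, Sh.deg_φ, Nat.card_eq_fintype_card,
    hcard] at hj
  push_cast at hk hj
  have hk0 : k ≠ 0 := by
    rintro rfl
    exact phi_ne_deg D Sh hv1 (by linear_combination hk)
  have he : p * (j + 4 * (p - 1) * k) = p * 14 := by
    have hp1 := hp.one_lt
    have : ((p * (j + 4 * (p - 1) * k) : ℕ) : ℂ) = ((p * 14 : ℕ) : ℂ) := by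
      push_cast [Nat.cast_sub hp1.le]
      linear_combination hj + ((p : ℂ) - 1) * hk
    exact_mod_cast this
  have he' := Nat.eq_of_mul_eq_mul_left hp.pos he
  obtain ⟨q, hq⟩ := hp2
  have h2 : 4 * (p - 1) ≤ 14 := by
    have := Nat.le_mul_of_pos_right (4 * (p - 1)) (Nat.pos_of_ne_zero hk0)
    omega
  have hp3 : p = 3 := by have := hp.one_lt; omega
  subst hp3
  refine ⟨rfl, ?_⟩
  have hk1 : k = 1 := by omega
  subst hk1
  push_cast at hk
  linear_combination hk

/-- Elements commuting with a four element part of the Sylow subgroup have order three. -/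
theorem four_elt [IsSimpleGroup G]
    (hconj : IsConj (σ ^ 2 ^ (n - 2)) τ ∧ IsConj (σ ^ 2 ^ (n - 2)) (σ * τ)) {H : Subgroup G}
    (hHP : H ≤ (P : Subgroup G)) (h4 : Nat.card H = 4) {X : Subgroup G}
    (hXodd : ∀ x ∈ X, Odd (orderOf x)) (hc : ∀ h ∈ H, ∀ x ∈ X, Commute h x) {v : G} (hv : v ∈ X)
    (hv1 : v ≠ 1) : orderOf v = 3 ∧ (φ : G → ℂ) v = 2 := by
  have hodd := hXodd
  have hcomm : ∀ x ∈ X, ∀ h ∈ H, Commute h x := fun x hx h hh => hc h hh x hx
  have hprime : ∀ x ∈ X, ∀ p : ℕ, p.Prime → orderOf x = p →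
      p = 3 ∧ (φ : G → ℂ) x = 2 := fun x hx p hp ho =>
    prime_value D Sh hM hconj hHP h4 hp (ho ▸ hodd x hx) ho (hcomm x hx)
  -- no element of order nine
  have hnine : ∀ x ∈ X, orderOf x ≠ 9 := by
    intro x hx ho
    haveI : Fintype (Subgroup.zpowers x) := Fintype.ofFinite _
    haveI : Fintype H := Fintype.ofFinite _
    have hcard : Fintype.card (Subgroup.zpowers x) = 9 := by
      rw [← Nat.card_eq_fintype_card, Nat.card_zpowers, ho]
    obtain ⟨ζ, hζ⟩ : ∃ ζ : ℂ, IsPrimitiveRoot ζ (orderOf x) :=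
      ⟨_, Complex.isPrimitiveRoot_exp _ (orderOf_pos x).ne'⟩
    obtain ⟨μ, hμ⟩ := CfsgLib.DihPrincipal.exists_chr hζ 1
    have hμ1 : μ ≠ 1 := by
      intro e
      have h := hμ 1
      rw [e] at h
      refine hζ.pow_ne_one_of_pos_of_lt one_ne_zero (by omega) ?_
      simpa using h.symm
    have hcy : ∀ h : H, ∀ y : Subgroup.zpowers x, Commute (h : G) y :=
      fun h y => by
        obtain ⟨i, hi⟩ := Subgroup.mem_zpowers_iff.1 y.2
        rw [← hi]; exact (hc h h.2 x hx).zpow_right i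
    obtain ⟨k, hk⟩ := mult_split (hcard ▸ (by decide : Odd 9)) (Subgroup.zpowers x).subtype
      (Subgroup.subtype_injective _) H (P.2.to_le hHP) hcy φ
      (fun h h1 y => sylow_apply D hM hconj Sh.mem.2.1 (hHP h.2) (fun e => h1 (Subtype.ext e))
        (hcy h y) (Odd.of_dvd_nat (hodd x hx) (orderOf_dvd_of_mem_zpowers y.2))) μ hμ1
    have hsum : ∀ F : Subgroup.zpowers x → ℂ, ∑ y, F y =
        ∑ l ∈ range 9, F ⟨x ^ l, Subgroup.npow_mem_zpowers x l⟩ := by
      intro F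
      rw [← Equiv.sum_comp (finEquivZPowers (isOfFinOrder_of_finite x)) F,
        ← Fin.sum_univ_eq_sum_range fun l => F ⟨x ^ l, Subgroup.npow_mem_zpowers x l⟩,
        ← Equiv.sum_comp (finCongr ho)]
      rfl
    rw [hsum, h4, hcard] at hk
    simp only [Subgroup.coe_subtype, hμ, one_mul] at hk
    have hX : ∀ l : ℕ, l.Coprime 9 → (φ : G → ℂ) (x ^ l) = (φ : G → ℂ) x := fun l hl =>
      phi_pow D Sh x (ho.symm ▸ hl)
    have h3 : (φ : G → ℂ) (x ^ 3) = 2 :=
      (hprime _ (pow_mem hx 3) 3 Nat.prime_three (by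
        rw [orderOf_pow_of_dvd (by norm_num) (ho ▸ by norm_num), ho])).2
    have h6 : (φ : G → ℂ) (x ^ 6) = 2 :=
      (hprime _ (pow_mem hx 6) 3 Nat.prime_three (by
        rw [orderOf_pow, ho]; rfl)).2
    simp only [Finset.sum_range_succ, Finset.sum_range_zero, pow_zero, pow_one,
      hX 2 (by norm_num), hX 4 (by norm_num), hX 5 (by norm_num), hX 7 (by norm_num),
      hX 8 (by norm_num), h3, h6, Sh.deg_φ, map_one, mul_one, zero_add, map_pow] at hk
    rw [ho] at hζ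
    have hη : IsPrimitiveRoot (conj ζ) 9 := hζ.map_of_injective (starRingEnd ℂ).injective
    have h9 : (conj ζ) ^ 6 + (conj ζ) ^ 3 + 1 = 0 := by
      have hp : IsPrimitiveRoot ((conj ζ) ^ 3) 3 := hη.pow (by norm_num) (by norm_num)
      have := hp.geom_sum_eq_zero (by norm_num)
      simp only [Finset.sum_range_succ, Finset.sum_range_zero, pow_zero, zero_add] at this
      linear_combination this
    have h12 : ((36 * k : ℕ) : ℂ) = ((12 : ℕ) : ℂ) := by
      push_cast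
      linear_combination hk + ((φ : G → ℂ) x * (conj ζ + (conj ζ) ^ 2) + 2) * h9
    have h12' : 36 * k = 12 := by exact_mod_cast h12
    omega
  have hpow : ∀ j : ℕ, j ∣ orderOf v → j ≠ 0 → orderOf (v ^ (orderOf v / j)) = j := fun j hj hj0 => by
    rw [orderOf_pow_of_dvd (Nat.div_pos (Nat.le_of_dvd (orderOf_pos v) hj) (Nat.pos_of_ne_zero hj0)).ne'
      (Nat.div_dvd_of_dvd hj), Nat.div_div_self hj (orderOf_pos v).ne']
  have hall : ∀ p : ℕ, p.Prime → p ∣ orderOf v → p = 3 := fun p hp hpd =>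
    (hprime _ (pow_mem hv _) p hp (hpow p hpd hp.ne_zero)).1
  have h9' : ¬ 9 ∣ orderOf v := fun h => hnine _ (pow_mem hv _) (hpow 9 h (by norm_num))
  have h3' : orderOf v = 3 := by
    have hne : orderOf v ≠ 1 := fun h => hv1 (orderOf_eq_one_iff.1 h)
    obtain ⟨p, hp, hpd⟩ := Nat.exists_prime_and_dvd hne
    obtain ⟨r, hr⟩ := hall p hp hpd ▸ hpd
    rcases eq_or_ne r 1 with h | h
    · rw [hr, h]
    · obtain ⟨q, hq, hqd⟩ := Nat.exists_prime_and_dvd h
      exact absurd (hr ▸ Nat.mul_dvd_mul_left 3 (hall q hq (hr ▸ hqd.mul_left 3) ▸ hqd)) h9'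
  exact ⟨h3', (hprime v hv 3 Nat.prime_three h3').2⟩

/-- An odd subgroup commuting with a four element part of the Sylow subgroup has order at most
three. -/
theorem four_card [IsSimpleGroup G]
    (hconj : IsConj (σ ^ 2 ^ (n - 2)) τ ∧ IsConj (σ ^ 2 ^ (n - 2)) (σ * τ)) {H : Subgroup G}
    (hHP : H ≤ (P : Subgroup G)) (h4 : Nat.card H = 4) {X : Subgroup G}
    (hXodd : ∀ x ∈ X, Odd (orderOf x)) (hc : ∀ h ∈ H, ∀ x ∈ X, Commute h x) :
    Nat.card X ∣ 3 := by
  haveI : Fact (Nat.Prime 3) := ⟨Nat.prime_three⟩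
  have hp : IsPGroup 3 X := IsPGroup.iff_orderOf.2 fun x => by
    by_cases h1 : (x : G) = 1
    · exact ⟨0, by rw [← Subgroup.orderOf_coe, h1, orderOf_one, pow_zero]⟩
    · exact ⟨1, by rw [← Subgroup.orderOf_coe, pow_one,
        (four_elt D Sh hM hconj hHP h4 hXodd hc x.2 h1).1]⟩
  obtain ⟨k, hk⟩ := hp.exists_card_eq
  by_contra hk3
  have h9 : 3 ^ 2 ∣ Nat.card X := by
    rw [hk]; refine pow_dvd_pow 3 (le_of_not_gt fun h => hk3 ?_)
    rw [hk]
    exact (pow_dvd_pow 3 (show k ≤ 1 by omega)).trans (dvd_of_eq (pow_one 3))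
  obtain ⟨Y₀, hY₀⟩ := Sylow.exists_subgroup_card_pow_prime 3 h9
  set Y := Y₀.map X.subtype with hYdef
  have hY9 : Nat.card Y = 3 ^ 2 := by rw [hYdef, Subgroup.card_subtype, hY₀]
  have hYX : Y ≤ X := Subgroup.map_subtype_le _
  haveI : Fintype Y := Fintype.ofFinite _
  haveI : Fintype H := Fintype.ofFinite _
  have hcomm : ∀ a b : Y, a * b = b * a := fun a b =>
    IsPGroup.commutative_of_card_eq_prime_sq hY9 a b
  obtain ⟨y, hy⟩ : ∃ y : Y, y ≠ 1 := by
    by_contra h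
    simp only [not_exists, not_not] at h
    haveI : Subsingleton Y := ⟨fun a b => (h a).trans (h b).symm⟩
    rw [Nat.card_of_subsingleton (1 : Y)] at hY9
    norm_num at hY9
  obtain ⟨μ, hμ⟩ := exists_char_ne_one hcomm hy
  have hμ1 : μ ≠ 1 := fun e => hμ (by rw [e]; rfl)
  obtain ⟨m, hm⟩ := mult_split (by rw [← Nat.card_eq_fintype_card, hY9]; decide) Y.subtype
    Y.subtype_injective H (P.2.to_le hHP) (fun h y => hc h h.2 y (hYX y.2)) φ
    (fun h h1 y => sylow_apply D hM hconj Sh.mem.2.1 (hHP h.2) (fun e => h1 (Subtype.ext e))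
      (hc h h.2 y (hYX y.2)) (hXodd y (hYX y.2))) μ hμ1
  simp only [Subgroup.coe_subtype] at hm
  rw [sum_const_off _ 2 (fun y hy => (four_elt D Sh hM hconj hHP h4 hXodd hc (hYX y.2)
      (fun e => hy (Subtype.ext e))).2), if_neg hμ1, OneMemClass.coe_one, Sh.deg_φ, h4,
    ← Nat.card_eq_fintype_card, hY9] at hm
  have : ((36 * m : ℕ) : ℂ) = ((12 : ℕ) : ℂ) := by push_cast at hm ⊢; linear_combination hm
  have : 36 * m = 12 := by exact_mod_cast this
  omega

end CfsgLib.GW
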