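import Cfsg.Agent.GW.A7End.Rational

/-!
# The two possible orders
-/

set_option autoImplicit false
set_option linter.style.haveILetI false
set_option linter.unusedSectionVars false

namespace CfsgLib.GW

open Cfsg Finset CfsgLib.Block CfsgLib.Block.Chr CfsgLib.SectionCount CfsgLib.DihPrincipal
open CfsgLib.SL2C
open scoped ComplexConjugate
open scoped Classical

universe u

variable {G : Type u} [Group G] [Fintype G] [Fact (Nat.Prime 2)] {P : Sylow 2 G} {σ τ : G} {n : ℕ}
  (D : Data P σ τ n)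
include D

/-- The fixed points of `σ` on the odd part. -/
noncomputable def fixS (D : Data P σ τ n) : Subgroup G :=
  oddU D ⊓ Subgroup.centralizer ({σ} : Set G)

variable (hst : oddU D ⊓ Subgroup.centralizer ({σ * τ} : Set G) = ⊥)
include hst

theorem tau_inverts {y : G} (hy : y ∈ fixS D) : τ * y * τ⁻¹ = y⁻¹ := by
  have hc : Commute y σ := Subgroup.mem_centralizer_singleton_iff.1 hy.2
  have h := st_inverts D hst hy.1
  calc τ * y * τ⁻¹ = σ⁻¹ * (σ * τ * y * (σ * τ)⁻¹) * σ := by group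
    _ = y⁻¹ := by rw [h, mul_assoc, hc.inv_left.eq, ← mul_assoc, inv_mul_cancel, one_mul]

theorem card_fixT_mul_fixS : Nat.card (fixT D) * Nat.card (fixS D) = Nat.card (oddU D) := by
  rw [← Nat.card_prod]
  refine Nat.card_congr (Equiv.ofBijective
    (fun q : fixT D × fixS D => (⟨(q.1 : G) * q.2, mul_mem q.1.2.1 q.2.2.1⟩ : oddU D)) ⟨?_, ?_⟩)
  · rintro ⟨x, y⟩ ⟨x', y'⟩ h
    have h1 : (x : G) * y = x' * y' := congrArg Subtype.val h
    have hz : ((x'⁻¹ * x : fixT D) : G) = ((y' * y⁻¹ : fixS D) : G) := by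
      simp only [Subgroup.coe_mul, Subgroup.coe_inv]
      rw [eq_mul_inv_iff_mul_eq, mul_assoc, h1, inv_mul_cancel_left]
    have hz1 : ((x'⁻¹ * x : fixT D) : G) = 1 := by
      set z := ((x'⁻¹ * x : fixT D) : G) with hzdef
      have h2 : z ∈ fixT D := (x'⁻¹ * x).2
      have h3 : z ∈ fixS D := hz ▸ (y' * y⁻¹).2
      have h4 := sigma_inverts D hst h2
      rw [← Subgroup.mem_centralizer_singleton_iff.1 h3.2, mul_inv_cancel_right] at h4
      have ho : Odd (orderOf z) := ((mem_oddU_iff D).1 h2.1).2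
      have h5 : orderOf z ∣ 2 := orderOf_dvd_of_pow_eq_one (by rw [sq, ← inv_mul_cancel z, ← h4])
      exact orderOf_eq_one_iff.1
        (Nat.eq_one_of_dvd_coprimes (Nat.coprime_two_left.2 ho) h5 (dvd_refl _))
    have ex : x' = x := inv_mul_eq_one.1 (Subtype.ext hz1)
    have ey : y' = y := mul_inv_eq_one.1 (Subtype.ext (hz.symm.trans hz1))
    rw [ex, ey]
  · rintro ⟨u, hu⟩
    obtain ⟨m, hm⟩ := ((mem_oddU_iff D).1 hu).2
    obtain ⟨r, hr, hr2⟩ : ∃ r ∈ oddU D, r * r = u := ⟨u ^ (m + 1), pow_mem hu _, by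
      rw [← pow_add, show m + 1 + (m + 1) = orderOf u + 1 by omega, pow_succ, pow_orderOf_eq_one,
        one_mul]⟩
    have hτC := D.le_centralizer D.τ_mem
    have hτi := CfsgLib.Invol.inv_eq_self D.ordτ
    have hττ := CfsgLib.Invol.mul_self_eq_one D.ordτ
    set r' := τ * r * τ⁻¹ with hr'
    have hr'U : r' ∈ oddU D := conj_mem_oddU D hτC hr
    have hrr : τ * r' * τ⁻¹ = r := by
      rw [hr', hτi, show τ * (τ * r * τ) * τ = (τ * τ) * r * (τ * τ) by simp only [mul_assoc],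
        hττ, one_mul, mul_one]
    have hcomm := oddU_comm D hst hr hr'U
    have hx : r * r' ∈ fixT D := by
      refine ⟨mul_mem hr hr'U, Subgroup.mem_centralizer_singleton_iff.2 ?_⟩
      have h : τ * (r * r') * τ⁻¹ = r * r' := by
        rw [show τ * (r * r') * τ⁻¹ = τ * r * τ⁻¹ * (τ * r' * τ⁻¹) by group, ← hr', hrr, hcomm]
      exact (mul_inv_eq_iff_eq_mul.1 h).symm
    have hy : r * r'⁻¹ ∈ fixS D := by
      refine ⟨(oddU D).mul_mem hr ((oddU D).inv_mem hr'U), Subgroup.mem_centralizer_singleton_iff.2 ?_⟩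
      have h := st_inverts D hst (mul_mem hr (inv_mem hr'U))
      have h2 : τ * (r * r'⁻¹) * τ⁻¹ = r' * r⁻¹ := by
        rw [show τ * (r * r'⁻¹) * τ⁻¹ = τ * r * τ⁻¹ * (τ * r' * τ⁻¹)⁻¹ by group, ← hr', hrr]
      rw [show σ * τ * (r * r'⁻¹) * (σ * τ)⁻¹ = σ * (τ * (r * r'⁻¹) * τ⁻¹) * σ⁻¹ by group, h2,
        mul_inv_rev, inv_inv] at h
      have h3 : Commute (r' * r⁻¹) σ := (mul_inv_eq_iff_eq_mul.1 h).symm
      have h4 := h3.inv_left.eq
      rwa [mul_inv_rev, inv_inv] at h4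
    refine ⟨(⟨r * r', hx⟩, ⟨r * r'⁻¹, hy⟩), Subtype.ext ?_⟩
    show r * r' * (r * r'⁻¹) = u
    rw [hcomm, mul_assoc, ← mul_assoc r, hr2, ← mul_assoc,
      oddU_comm D hst hr'U hu, mul_assoc, mul_inv_cancel, mul_one]

variable (hd : fixT D ≠ ⊥)
include hd
variable {M : Ideal AlgInt} [M.IsPrime] (hM : IsPModular 2 M)
include hM
variable {a φ b c : IrrCharacter G} (Sh : Shape D M a φ b c)
include Sh

theorem card_fixT : Nat.card (fixT D) = 3 := by
  rw [Sh.d_eq, fixST, hst, Subgroup.card_bot]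

theorem card_fixS {w : ℕ} (hw : Nat.card (oddU D) = 3 * w) : Nat.card (fixS D) = w := by
  have h := card_fixT_mul_fixS D hst
  rw [card_fixT D hst hd hM Sh, hw] at h
  exact Nat.eq_of_mul_eq_mul_left (by norm_num) h

variable [IsSimpleGroup G] (hconj : IsConj (σ ^ 2 ^ (n - 2)) τ ∧ IsConj (σ ^ 2 ^ (n - 2)) (σ * τ))
include hconj

theorem phi_fixT {d : G} (hdm : d ∈ fixT D) (hd1 : d ≠ 1) : (φ : G → ℂ) d = 2 := by
  have hN := nested_of_bot D hst hd
  have h4 : Nat.card (centP D) = 4 := by rw [card_centP D hN, Sh.n_eq]; rfl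
  exact (four_elt D Sh hM hconj (H := centP D) inf_le_left h4 (X := fixT D)
    (fun x hx => ((mem_oddU_iff D).1 hx.1).2)
    (fun h hh x hx => (Subgroup.mem_centralizer_iff.1 hh.2 x hx).symm) hdm hd1).2

theorem fixS_elt {v : G} (hv : v ∈ fixS D) (hv1 : v ≠ 1) :
    orderOf v = 3 ∧ (φ : G → ℂ) v = 2 := by
  have h4 : Nat.card (Subgroup.zpowers σ) = 4 := by
    rw [Nat.card_zpowers, D.ordσ, Sh.n_eq]; rfl
  refine four_elt D Sh hM hconj D.le_sylow h4 (X := fixS D)
    (fun x hx => ((mem_oddU_iff D).1 hx.1).2) (fun h hh x hx => ?_) hv hv1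
  obtain ⟨i, rfl⟩ := Subgroup.mem_zpowers_iff.1 hh
  exact (show Commute x σ from Subgroup.mem_centralizer_singleton_iff.1 hx.2).symm.zpow_left i

/-- The data of the spurious case. -/
structure Big (D : Data P σ τ n) (φ : IrrCharacter G) (d v : G) : Prop where
  card_G : Nat.card G = 68040
  card_U : Nat.card (oddU D) = 9
  d_mem : d ∈ fixT D
  v_mem : v ∈ fixS D
  d_ne : d ≠ 1
  v_ne : v ≠ 1
  val : (φ : G → ℂ) (d * v) = 8
  cases : ∀ u ∈ oddU D, (φ : G → ℂ) u = 8 →
    u = d * v ∨ u = (d * v)⁻¹ ∨ u = d * v⁻¹ ∨ u = (d * v⁻¹)⁻¹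

theorem order_or : Nat.card G = 2520 ∨ ∃ d v : G, Big D φ d v := by
  obtain ⟨w, hw, hG⟩ := Sh.order
  have h1 : Nat.card (fixST D) = 1 := by rw [fixST, hst, Subgroup.card_bot]
  rw [h1, mul_one] at hw
  rw [h1, one_mul] at hG
  have hS := card_fixS D hst hd hM Sh hw
  rcases eq_or_ne w 1 with rfl | hw1
  · left; rw [hG]; norm_num
  right
  haveI : Fintype (fixS D) := Fintype.ofFinite _
  haveI : Fintype (fixT D) := Fintype.ofFinite _
  haveI : Fintype (Subgroup.zpowers σ) := Fintype.ofFinite _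
  obtain ⟨v, hv, hv1⟩ : ∃ v : G, v ∈ fixS D ∧ v ≠ 1 := by
    refine ((fixS D).bot_or_exists_ne_one).resolve_left fun e => hw1 ?_
    rw [← hS, e, Subgroup.card_bot]
  obtain ⟨d, hdm, hd1⟩ : ∃ d : G, d ∈ fixT D ∧ d ≠ 1 :=
    ((fixT D).bot_or_exists_ne_one).resolve_left hd
  have hcS : ∀ x y : fixS D, x * y = y * x := fun x y => Subtype.ext (oddU_comm D hst x.2.1 y.2.1)
  have hcT : ∀ x y : fixT D, x * y = y * x := fun x y => Subtype.ext (oddU_comm D hst x.2.1 y.2.1)
  obtain ⟨μ, hμ⟩ := exists_char_ne_one hcS (a := ⟨v, hv⟩) (fun e => hv1 (congrArg Subtype.val e))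
  have hμ1 : μ ≠ 1 := fun e => hμ (by rw [e]; rfl)
  obtain ⟨ν, hν⟩ := exists_char_ne_one hcT (a := ⟨d, hdm⟩) (fun e => hd1 (congrArg Subtype.val e))
  have hν1 : ν ≠ 1 := fun e => hν (by rw [e]; rfl)
  have hσP : Subgroup.zpowers σ ≤ (P : Subgroup G) := D.le_sylow
  have h4 : Nat.card (Subgroup.zpowers σ) = 4 := by
    rw [Nat.card_zpowers, D.ordσ, Sh.n_eq]; rfl
  have hoddS : Odd (Fintype.card (fixS D)) := by
    rw [← Nat.card_eq_fintype_card]
    exact Odd.of_dvd_nat (odd_card_oddU D) (Subgroup.card_dvd_of_le inf_le_left)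
  have hcy : ∀ h : Subgroup.zpowers σ, ∀ y : fixS D, Commute (h : G) y := fun h y => by
    obtain ⟨i, hi⟩ := Subgroup.mem_zpowers_iff.1 h.2
    rw [← hi]
    exact (show Commute (y : G) σ from
      Subgroup.mem_centralizer_singleton_iff.1 y.2.2).symm.zpow_left i
  obtain ⟨k, hk⟩ := mult_split hoddS (fixS D).subtype (fixS D).subtype_injective
    (Subgroup.zpowers σ) (P.2.to_le hσP) hcy φ
    (fun h h1 y => sylow_apply D hM hconj Sh.mem.2.1 (hσP h.2) (fun e => h1 (Subtype.ext e))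
      (hcy h y) ((mem_oddU_iff D).1 y.2.1).2) μ hμ1
  simp only [Subgroup.coe_subtype] at hk
  rw [sum_const_off _ 2 (fun y hy => (fixS_elt D hst hd hM Sh hconj y.2
      (fun e => hy (Subtype.ext e))).2), if_neg hμ1, OneMemClass.coe_one, Sh.deg_φ, h4,
    ← Nat.card_eq_fintype_card (α := fixS D), hS] at hk
  have hk' : 4 * w * k = 12 := by
    have : ((4 * w * k : ℕ) : ℂ) = ((12 : ℕ) : ℂ) := by push_cast at hk ⊢; linear_combination hk
    exact_mod_cast this
  have hw3 : w = 3 := by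
    have h3 : 3 ∣ w := by
      rw [← hS, ← (fixS_elt D hst hd hM Sh hconj hv hv1).1]
      exact Subgroup.orderOf_dvd_natCard _ hv
    exact Nat.dvd_antisymm ⟨k, by rw [mul_assoc] at hk'; omega⟩ h3
  subst hw3
  -- the product
  let f : fixT D × fixS D →* G := (fixT D).subtype.noncommCoprod (fixS D).subtype
    fun x y => oddU_comm D hst x.2.1 y.2.1
  have hfU : ∀ q, f q ∈ oddU D := fun q => mul_mem q.1.2.1 q.2.2.1
  have hbij : Function.Bijective fun q : fixT D × fixS D => (⟨f q, hfU q⟩ : oddU D) := by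
    have hinj : Function.Injective f := by
      refine (MonoidHom.noncommCoprod_injective _ _ _).2
        ⟨Subgroup.subtype_injective _, Subgroup.subtype_injective _, ?_⟩
      rw [Subgroup.disjoint_def]
      intro z h2 h3
      rw [Subgroup.range_subtype] at h2 h3
      have h4 := sigma_inverts D hst h2
      rw [← Subgroup.mem_centralizer_singleton_iff.1 h3.2, mul_inv_cancel_right] at h4
      have ho : Odd (orderOf z) := ((mem_oddU_iff D).1 h2.1).2
      have h5 : orderOf z ∣ 2 := orderOf_dvd_of_pow_eq_one (by rw [sq, ← inv_mul_cancel z, ← h4])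
      exact orderOf_eq_one_iff.1
        (Nat.eq_one_of_dvd_coprimes (Nat.coprime_two_left.2 ho) h5 (dvd_refl _))
    haveI : Finite (oddU D) := inferInstance
    refine (Nat.bijective_iff_injective_and_card _).2
      ⟨fun q r h => hinj (congrArg Subtype.val h), ?_⟩
    rw [Nat.card_prod, card_fixT_mul_fixS D hst]
  have hfi : Function.Injective f := fun q r h => hbij.1 (Subtype.ext h)
  -- all the mixed values agree
  have hτ : τ * (d * v) * τ⁻¹ = d * v⁻¹ := by
    rw [show τ * (d * v) * τ⁻¹ = τ * d * τ⁻¹ * (τ * v * τ⁻¹) by group, tau_inverts D hst hv,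
      (Subgroup.mem_centralizer_singleton_iff.1 hdm.2).symm, mul_inv_cancel_right]
  set C := (φ : G → ℂ) (d * v) with hC
  have hC' : (φ : G → ℂ) (d * v⁻¹) = C := by
    rw [← hτ]
    exact (CfsgLib.Char.IsClassFunction.apply_eq_of_isConj (isClassFunction_irr φ)
      (isConj_iff.2 ⟨τ, rfl⟩)).symm
  have hT3 : Nat.card (fixT D) = 3 := card_fixT D hst hd hM Sh
  have hquad : ∀ x : fixT D, ∀ y : fixS D, x ≠ 1 → y ≠ 1 →
      (f (x, y) = d * v ∨ f (x, y) = (d * v)⁻¹ ∨ f (x, y) = d * v⁻¹ ∨ f (x, y) = (d * v⁻¹)⁻¹) := by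
    intro x y hx hy
    have hcdv := oddU_comm D hst hdm.1 hv.1
    have hcdv' := oddU_comm D hst hdm.1 (inv_mem hv.1)
    show ((x : G) * y = _ ∨ (x : G) * y = _ ∨ (x : G) * y = _ ∨ (x : G) * y = _)
    rcases eq_or_inv_of_card_three hT3 (a := ⟨d, hdm⟩) (fun e => hd1 (congrArg Subtype.val e)) hx
      with rfl | rfl <;>
    rcases eq_or_inv_of_card_three hS (a := ⟨v, hv⟩) (fun e => hv1 (congrArg Subtype.val e)) hy
      with rfl | rfl
    · exact Or.inl rfl
    · exact Or.inr (Or.inr (Or.inl rfl))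
    · refine Or.inr (Or.inr (Or.inr ?_))
      rw [hcdv', mul_inv_rev, inv_inv]
      rfl
    · refine Or.inr (Or.inl ?_)
      rw [hcdv, mul_inv_rev]
      rfl
  have hmix : ∀ x : fixT D, ∀ y : fixS D, x ≠ 1 → y ≠ 1 → (φ : G → ℂ) (f (x, y)) = C := by
    intro x y hx hy
    rcases hquad x y hx hy with h | h | h | h <;> rw [h]
    · exact phi_inv D Sh _
    · exact hC'
    · rw [phi_inv D Sh]; exact hC'
  have hT : ∀ x : fixT D, x ≠ 1 → (φ : G → ℂ) x = 2 := fun x hx =>
    phi_fixT D hst hd hM Sh hconj x.2 fun e => hx (Subtype.ext e)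
  have hS2 : ∀ y : fixS D, y ≠ 1 → (φ : G → ℂ) y = 2 := fun y hy =>
    (fixS_elt D hst hd hM Sh hconj y.2 fun e => hy (Subtype.ext e)).2
  have hsum : ∀ (α : fixT D →* ℂˣ) (β : fixS D →* ℂˣ),
      ∑ q : fixT D × fixS D, (φ : G → ℂ) (f q) * conj ((α q.1 : ℂ) * (β q.2 : ℂ)) =
        ((14 - 2 + 2 * if β = 1 then (3 : ℂ) else 0) - (2 - C + C * if β = 1 then (3 : ℂ) else 0)) +
          (2 - C + C * if β = 1 then (3 : ℂ) else 0) * if α = 1 then (3 : ℂ) else 0 := by
    intro α β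
    have h3T : (Fintype.card (fixT D) : ℂ) = 3 := by
      rw [← Nat.card_eq_fintype_card, hT3]; norm_num
    have h3S : (Fintype.card (fixS D) : ℂ) = 3 := by
      rw [← Nat.card_eq_fintype_card, hS]; norm_num
    set E : fixT D → ℂ := fun x => ∑ y : fixS D, (φ : G → ℂ) (f (x, y)) * conj (β y : ℂ) with hE
    have hoff : ∀ x, x ≠ 1 → E x = 2 - C + C * if β = 1 then (3 : ℂ) else 0 := by
      intro x hx
      rw [hE]; dsimp only
      rw [sum_const_off _ C (fun y hy => hmix x y hx hy), h3S,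
        show f (x, 1) = (x : G) from mul_one _, hT x hx]
    have hon : E 1 = 14 - 2 + 2 * if β = 1 then (3 : ℂ) else 0 := by
      rw [hE]; dsimp only
      rw [sum_const_off _ 2 (fun y hy => by
        rw [show f (1, y) = (y : G) from one_mul _]; exact hS2 y hy), h3S,
        show f (1, 1) = (1 : G) from map_one f, Sh.deg_φ]
    calc _ = ∑ x : fixT D, E x * conj (α x : ℂ) := by
          rw [Fintype.sum_prod_type]
          refine sum_congr rfl fun x _ => ?_
          rw [hE]; dsimp only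
          rw [sum_mul]
          exact sum_congr rfl fun y _ => by rw [map_mul]; ring
      _ = _ := by rw [sum_const_off _ _ hoff, h3T, hon]
  obtain ⟨l, hl⟩ : ∃ l : ℕ, (9 * l : ℂ) = 22 + 4 * C := by
    obtain ⟨l, hl⟩ := exists_mult_hom f hfi φ 1
    have h := hsum 1 1
    simp only [MonoidHom.one_apply, Units.val_one, mul_one, if_pos] at h hl
    rw [h, Nat.card_prod, hT3, hS] at hl
    exact ⟨l, by push_cast at hl; linear_combination hl⟩
  -- the central involution times the product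
  set z := σ ^ 2 ^ (n - 2) with hzdef
  haveI : Fintype (Subgroup.zpowers z) := Fintype.ofFinite _
  have hz2 : Nat.card (Subgroup.zpowers z) = 2 := by rw [Nat.card_zpowers, D.orderOf_z]
  have hzP : Subgroup.zpowers z ≤ (P : Subgroup G) :=
    Subgroup.zpowers_le.2 (hσP Data.z_mem_zpowers)
  have hcz : ∀ h : Subgroup.zpowers z, ∀ q : fixT D × fixS D, Commute (h : G) (f q) := fun h q => by
    obtain ⟨i, hi⟩ := Subgroup.mem_zpowers_iff.1 h.2
    rw [← hi]
    exact (show Commute (f q) z from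
      Subgroup.mem_centralizer_singleton_iff.1 (oddU_le D (hfU q))).symm.zpow_left i
  have hprod : Odd (Fintype.card (fixT D × fixS D)) := by
    rw [← Nat.card_eq_fintype_card, Nat.card_prod, hT3, hS]; decide
  have hzmult : ∀ ψ : fixT D × fixS D →* ℂˣ, ψ ≠ 1 → ∃ k : ℕ, (18 * k : ℂ) =
      ∑ q : fixT D × fixS D, (φ : G → ℂ) (f q) * conj (ψ q : ℂ) := by
    intro ψ hψ
    obtain ⟨k, hk⟩ := mult_split hprod f hfi (Subgroup.zpowers z) (P.2.to_le hzP) hcz φ
      (fun h h1 q => sylow_apply D hM hconj Sh.mem.2.1 (hzP h.2) (fun e => h1 (Subtype.ext e))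
        (hcz h q) ((mem_oddU_iff D).1 (hfU q)).2) ψ hψ
    refine ⟨k, ?_⟩
    rw [← hk, hz2, ← Nat.card_eq_fintype_card, Nat.card_prod, hT3, hS]
    norm_num
  obtain ⟨m, hm⟩ := hzmult ((ν.comp (MonoidHom.fst _ _)) * (μ.comp (MonoidHom.snd _ _))) fun e => by
    have := DFunLike.congr_fun e ((⟨d, hdm⟩, 1) : fixT D × fixS D)
    exact hν (by simpa using this)
  obtain ⟨j, hj⟩ := hzmult (ν.comp (MonoidHom.fst _ _)) fun e => by
    have := DFunLike.congr_fun e ((⟨d, hdm⟩, 1) : fixT D × fixS D)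
    exact hν (by simpa using this)
  have hm' := hsum ν μ
  have hj' := hsum ν 1
  simp only [MonoidHom.mul_apply, MonoidHom.comp_apply, MonoidHom.coe_fst, MonoidHom.coe_snd,
    Units.val_mul] at hm
  simp only [MonoidHom.comp_apply, MonoidHom.coe_fst] at hj
  simp only [MonoidHom.one_apply, Units.val_one, mul_one] at hj'
  rw [hm', if_neg hν1, if_neg hμ1] at hm
  rw [hj', if_neg hν1] at hj
  simp only [if_true] at hj
  have e1 : j + 2 * m = 2 := by
    have : ((18 * (j + 2 * m) : ℕ) : ℂ) = ((36 : ℕ) : ℂ) := by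
      push_cast; linear_combination hj + 2 * hm
    have : 18 * (j + 2 * m) = 36 := by exact_mod_cast this
    omega
  have e2 : 9 * l + 18 = 72 * m := by
    have : ((9 * l + 18 : ℕ) : ℂ) = ((72 * m : ℕ) : ℂ) := by
      push_cast; linear_combination hl - 4 * hm
    exact_mod_cast this
  have hm1 : m = 1 := by omega
  subst hm1
  have hC8 : C = 8 := by push_cast at hm; linear_combination -hm
  refine ⟨d, v, ⟨by rw [hG]; norm_num, hw, hdm, hv, hd1, hv1, hC8, fun u hu h8 => ?_⟩⟩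
  obtain ⟨⟨x, y⟩, hxy⟩ := hbij.2 ⟨u, hu⟩
  have hxy' : f (x, y) = u := congrArg Subtype.val hxy
  by_cases hx : x = 1
  · subst hx
    rw [show f (1, y) = (y : G) from one_mul _] at hxy'
    by_cases hy : y = 1
    · subst hy; rw [← hxy', OneMemClass.coe_one, Sh.deg_φ] at h8; norm_num at h8
    · rw [← hxy', hS2 y hy] at h8; norm_num at h8
  by_cases hy : y = 1
  · subst hy
    rw [show f (x, 1) = (x : G) from mul_one _] at hxy'
    rw [← hxy', hT x hx] at h8; norm_num at h8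
  rw [← hxy']
  exact hquad x y hx hy

end CfsgLib.GW
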